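import Cfsg.Agent.Lib.Lie.FeitHigman.Cheb

/-!
# Relations in the Hecke algebra of a dihedral group
-/

set_option autoImplicit false

namespace CfsgLib.Lie.FeitHigman

open Polynomial

variable {K : Type*} [Field K] {R : Type*} [Ring R] [Algebra K R] (p q : K) (S T : R)

/-- the quadratic relations -/
structure Quad : Prop where
  hS : S * S = (q - 1) • S + q • (1 : R)
  hT : T * T = (p - 1) • T + p • (1 : R)

/-- the images of the distance matrices -/
def G : ℕ → R
  | 0 => 1 + S
  | j + 1 => (1 + S) * (T * S) ^ j * T * (1 + S)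

theorem G_zero : G S T 0 = 1 + S := rfl
theorem G_succ (j : ℕ) : G S T (j + 1) = (1 + S) * (T * S) ^ j * T * (1 + S) := rfl

/-- the adjacency operator, modified off the unit of the corner algebra -/
def Z : R :=
  (q + 1)⁻¹ • G S T 1 - ((p - 1 + (p * q + 1)) * (q + 1)⁻¹) • G S T 0 + (p * q + 1) • (1 : R)

variable {p q S T}

theorem Quad.eS (h : Quad p q S T) : (1 + S) * S = q • (1 + S) := by
  rw [add_mul, one_mul, h.hS]; module

theorem Quad.ee (h : Quad p q S T) : (1 + S) * (1 + S) = (q + 1) • (1 + S) := by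
  rw [mul_add, mul_one, h.eS]; module

theorem Quad.Z_e (h : Quad p q S T) (hq : q + 1 ≠ 0) :
    Z p q S T * G S T 0 = G S T 1 - (p - 1) • G S T 0 := by
  rw [Z, G_zero, G_succ, pow_zero, mul_one, add_mul, sub_mul, smul_mul_assoc, smul_mul_assoc, smul_mul_assoc,
    one_mul, mul_assoc _ (1 + S) (1 + S), h.ee, mul_smul_comm, smul_smul, inv_mul_cancel₀ hq, smul_smul,
    mul_assoc (p - 1 + (p * q + 1)), inv_mul_cancel₀ hq]
  module

theorem Quad.Z_G (h : Quad p q S T) (hq : q + 1 ≠ 0) (j : ℕ) :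
    Z p q S T * G S T (j + 1) =
      (if j = 0 then G S T 2 + (p * (q + 1)) • G S T 0 else G S T (j + 2) + (p * q) • G S T j) := by
  have h1 : Z p q S T * G S T (j + 1) =
      (1 + S) * T * T * ((S * T) ^ j * (1 + S)) + G S T (j + 2) +
        -((p - 1) • ((1 + S) * (T * S) ^ j * T * (1 + S))) := by
    have e : G S T (j + 1) = G S T 0 * ((T * S) ^ j * T * (1 + S)) := by
      rw [G_zero, G_succ, mul_assoc, mul_assoc, mul_assoc]
    rw [e, ← mul_assoc, h.Z_e hq, sub_mul, smul_mul_assoc, G_zero, sub_eq_add_neg]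
    congr 1
    · have e2 : ∀ i, (T * S) ^ i * T = T * (S * T) ^ i := by
        intro i
        induction i with
        | zero => simp
        | succ i ih =>
          calc (T * S) ^ (i + 1) * T = T * S * ((T * S) ^ i * T) := by rw [pow_succ']; simp only [mul_assoc]
            _ = T * S * (T * (S * T) ^ i) := by rw [ih]
            _ = T * (S * T) ^ (i + 1) := by rw [pow_succ']; simp only [mul_assoc]
      rw [G_succ, G_succ, pow_zero, mul_one, pow_succ' (T * S) j, e2]
      simp only [mul_add, add_mul, mul_one, one_mul, mul_assoc]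
      rw [← mul_assoc ((T * S) ^ j) T, e2]
      simp only [mul_assoc]
      abel
    · simp only [mul_assoc]
  rw [h1, show (1 + S) * T * T = (p - 1) • ((1 + S) * T) + p • (1 + S) by
    rw [mul_assoc, h.hT, mul_add, mul_smul_comm, mul_smul_comm, mul_one]]
  have e2 : ∀ i, T * (S * T) ^ i = (T * S) ^ i * T := by
    intro i
    induction i with
    | zero => simp
    | succ i ih =>
      calc T * (S * T) ^ (i + 1) = T * S * (T * (S * T) ^ i) := by rw [pow_succ']; simp only [mul_assoc]
        _ = T * S * ((T * S) ^ i * T) := by rw [ih]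
        _ = (T * S) ^ (i + 1) * T := by rw [pow_succ']; simp only [mul_assoc]
  have e3 : (1 + S) * T * ((S * T) ^ j * (1 + S)) = (1 + S) * (T * S) ^ j * T * (1 + S) := by
    rw [mul_assoc (1 + S) T, ← mul_assoc T, e2]
    simp only [mul_assoc]
  rw [add_mul, smul_mul_assoc, smul_mul_assoc, e3]
  rcases j with _ | i
  · rw [if_pos rfl, pow_zero, pow_zero, one_mul, mul_one, h.ee, G_zero]
    module
  · have e4 : (1 + S) * ((S * T) ^ (i + 1) * (1 + S)) = q • G S T (i + 1) := by
      rw [pow_succ', ← mul_assoc, ← mul_assoc, ← mul_assoc, h.eS, G_succ, smul_mul_assoc, smul_mul_assoc,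
        smul_mul_assoc, mul_assoc (1 + S) T, e2, ← mul_assoc]
    rw [if_neg (by omega), e4]
    module

theorem Quad.aeval_phi (h : Quad p q S T) (hq : q + 1 ≠ 0) :
    ∀ j, aeval (Z p q S T) (phi p q j) * G S T 0 = G S T j := by
  intro j
  induction j using Nat.strong_induction_on with
  | _ j ih =>
    match j, ih with
    | 0, _ => simp [phi_zero]
    | 1, _ =>
      rw [phi_one, map_add, aeval_X, aeval_C, add_mul, h.Z_e hq, Algebra.algebraMap_eq_smul_one,
        smul_mul_assoc, one_mul, sub_add_cancel]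
    | 2, ih =>
      rw [phi_two, map_sub, sub_mul, map_mul, map_mul, aeval_X, aeval_C, mul_assoc, mul_assoc,
        ih 1 (by omega), ih 0 (by omega), h.Z_G hq 0, if_pos rfl, Algebra.algebraMap_eq_smul_one,
        smul_mul_assoc, one_mul, add_sub_cancel_right]
    | i + 3, ih =>
      rw [phi_add_three, map_sub, sub_mul, map_mul, map_mul, aeval_X, aeval_C, mul_assoc, mul_assoc,
        ih (i + 2) (by omega), ih (i + 1) (by omega), h.Z_G hq (i + 1), if_neg (by omega),
        Algebra.algebraMap_eq_smul_one, smul_mul_assoc, one_mul, add_sub_cancel_right]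

theorem pow_shift (S T : R) : ∀ i, (S * T) ^ (i + 1) = S * ((T * S) ^ i * T)
  | 0 => by simp
  | i + 1 => by
    calc (S * T) ^ (i + 1 + 1) = S * T * (S * T) ^ (i + 1) := pow_succ' _ _
      _ = S * T * (S * ((T * S) ^ i * T)) := by rw [pow_shift S T i]
      _ = S * ((T * S) ^ (i + 1) * T) := by rw [pow_succ']; simp only [mul_assoc]

/-- boundary in the even case: `m = 2 (k + 2)` -/
theorem Quad.boundary_even (h : Quad p q S T) {k : ℕ} (hb : (T * S) ^ (k + 2) = (S * T) ^ (k + 2)) :
    G S T (k + 3) = (q * (p - 1)) • G S T (k + 2) + (p * q * q) • G S T (k + 1) := by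
  have e : (T * S) ^ (k + 1) * (1 + S) = (T * S) ^ k * (T * (q • (1 + S))) := by
    rw [pow_succ, mul_assoc, mul_assoc, ← h.eS]
    congr 2
    rw [mul_add, add_mul, mul_one, one_mul]
  rw [G_succ, hb, pow_shift, ← mul_assoc (1 + S) S, h.eS]
  simp only [G_succ, smul_mul_assoc, mul_assoc]
  generalize (1 + S) = E at e ⊢
  rw [← mul_assoc T T, h.hT, add_mul, smul_mul_assoc, smul_mul_assoc, one_mul]
  simp only [mul_add, smul_add, mul_smul_comm, e, smul_smul]
  module

/-- boundary in the odd case: `m = 2 (k + 2) + 1` -/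
theorem Quad.boundary_odd (h : Quad p q S T) {k : ℕ}
    (hb : (T * S) ^ (k + 2) * T = (S * T) ^ (k + 2) * S) :
    G S T (k + 3) = (q * q) • G S T (k + 2) := by
  have hs : S * (1 + S) = q • (1 + S) := by
    rw [← h.eS, mul_add, add_mul, mul_one, one_mul]
  rw [G_succ, mul_assoc (1 + S) _ T, hb, G_succ]
  simp only [mul_assoc]
  rw [hs, mul_smul_comm, mul_smul_comm, pow_shift, ← mul_assoc, ← mul_assoc, h.eS]
  simp only [smul_mul_assoc, smul_smul, mul_assoc]

theorem Quad.Z_compl (h : Quad p q S T) (hq : q + 1 ≠ 0) :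
    (Z p q S T - (p * q + 1) • (1 : R)) * ((q + 1) • (1 : R) - G S T 0) = 0 := by
  have e : (q + 1) • (Z p q S T - (p * q + 1) • (1 : R)) =
      G S T 1 - (p - 1 + (p * q + 1)) • G S T 0 := by
    rw [Z, add_sub_cancel_right, smul_sub, smul_smul, smul_smul, mul_inv_cancel₀ hq, one_smul,
      mul_comm (p - 1 + (p * q + 1)), ← mul_assoc, mul_inv_cancel₀ hq, one_mul]
  rw [mul_sub, mul_smul_comm, mul_one, e, sub_mul, h.Z_e hq, smul_mul_assoc, one_mul]
  module

theorem Quad.phi_ann_even (h : Quad p q S T) (hq : q + 1 ≠ 0) {k : ℕ}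
    (hb : (T * S) ^ (k + 2) = (S * T) ^ (k + 2)) :
    aeval (Z p q S T) ((X - C (q * (p - 1))) * phi p q (k + 2) - C (p * q * (q + 1)) * phi p q (k + 1)) *
      G S T 0 = 0 := by
  rw [map_sub (aeval (R := K) (Z p q S T)), sub_mul, map_mul (aeval (R := K) (Z p q S T)), map_mul (aeval (R := K) (Z p q S T)),
    map_sub (aeval (R := K) (Z p q S T)), aeval_X, aeval_C, aeval_C, mul_assoc, mul_assoc,
    h.aeval_phi hq, h.aeval_phi hq, sub_mul, h.Z_G hq (k + 1), if_neg (by omega), h.boundary_even hb,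
    Algebra.algebraMap_eq_smul_one, Algebra.algebraMap_eq_smul_one, smul_mul_assoc, smul_mul_assoc, one_mul,
    one_mul]
  module

theorem Quad.phi_ann_odd {S T : R} (h : Quad q q S T) (hq : q + 1 ≠ 0) {k : ℕ}
    (hb : (T * S) ^ (k + 2) * T = (S * T) ^ (k + 2) * S) :
    aeval (Z q q S T) ((X - C (q * q)) * phi q q (k + 2) - C (q * q) * phi q q (k + 1)) * G S T 0 = 0 := by
  rw [map_sub (aeval (R := K) (Z q q S T)), sub_mul, map_mul (aeval (R := K) (Z q q S T)), map_mul (aeval (R := K) (Z q q S T)),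
    map_sub (aeval (R := K) (Z q q S T)), aeval_X, aeval_C, mul_assoc, mul_assoc,
    h.aeval_phi hq, h.aeval_phi hq, sub_mul, h.Z_G hq (k + 1), if_neg (by omega), h.boundary_odd hb,
    Algebra.algebraMap_eq_smul_one, smul_mul_assoc, smul_mul_assoc, one_mul, one_mul]
  module

/-- a multiple of `X - (p q + 1)` is killed by the complement of the corner -/
theorem Quad.aeval_compl (h : Quad p q S T) (hq : q + 1 ≠ 0) (Ψ : K[X]) :
    (q + 1) • aeval (Z p q S T) ((X - C (p * q + 1)) * Ψ) =
      aeval (Z p q S T) ((X - C (p * q + 1)) * Ψ) * G S T 0 := by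
  have e : aeval (Z p q S T) ((X - C (p * q + 1)) * Ψ) * ((q + 1) • (1 : R) - G S T 0) = 0 := by
    rw [mul_comm (X - C (p * q + 1)) Ψ, map_mul, map_sub, aeval_X, aeval_C, Algebra.algebraMap_eq_smul_one,
      mul_assoc, h.Z_compl hq, mul_zero]
  rw [mul_sub, mul_smul_comm, mul_one, sub_eq_zero] at e
  exact e

end CfsgLib.Lie.FeitHigman
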