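import Mathlib

/-!
# Chebyshev-type polynomials for generalised polygons

`V P` is the sequence `0, 1, X, X² - P, …`; `quot P n y` is the quotient of `V P n - V P n (y)` by
`X - y`. A functional killing the distance polynomials is computed on the test polynomials.
-/

set_option autoImplicit false

namespace CfsgLib.Lie.FeitHigman

open Polynomial

variable {K : Type*} [Field K]

/-- `0, 1, X, X² - P, …` -/
noncomputable def V (P : K) : ℕ → K[X]
  | 0 => 0
  | 1 => 1
  | n + 2 => X * V P (n + 1) - C P * V P n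

theorem V_zero (P : K) : V P 0 = 0 := rfl
theorem V_one (P : K) : V P 1 = 1 := rfl
theorem V_add_two (P : K) (n : ℕ) : V P (n + 2) = X * V P (n + 1) - C P * V P n := rfl
theorem V_two (P : K) : V P 2 = X := by simp [V]

theorem V_map {L : Type*} [Field L] (f : K →+* L) (P : K) : ∀ n, (V P n).map f = V (f P) n
  | 0 => Polynomial.map_zero f
  | 1 => Polynomial.map_one f
  | n + 2 => by
    rw [V_add_two, V_add_two, Polynomial.map_sub, Polynomial.map_mul, Polynomial.map_mul, map_X, map_C,
      V_map f P (n + 1), V_map f P n]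

theorem natDegree_V (P : K) : ∀ n, (V P (n + 1)).natDegree = n ∧ (V P (n + 1)).Monic
  | 0 => by simp [V_one]
  | 1 => by simp [V_two, monic_X]
  | n + 2 => by
    obtain ⟨h1, m1⟩ := natDegree_V P (n + 1)
    obtain ⟨h0, -⟩ := natDegree_V P n
    have hd : (X * V P (n + 1 + 1)).natDegree = n + 2 := by
      rw [natDegree_X_mul m1.ne_zero, h1]
    have hlt : (C P * V P (n + 1)).degree < (X * V P (n + 1 + 1)).degree := by
      rw [degree_eq_natDegree (mul_ne_zero X_ne_zero m1.ne_zero), hd]
      refine lt_of_le_of_lt (degree_le_natDegree.trans (WithBot.coe_le_coe.2 (natDegree_C_mul_le _ _))) ?_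
      rw [h0]
      exact WithBot.coe_lt_coe.2 (show n < n + 2 by omega)
    rw [V_add_two]
    exact ⟨by rw [natDegree_sub_eq_left_of_natDegree_lt, hd]; have := natDegree_C_mul_le P (V P (n + 1)); omega,
      (monic_X.mul m1).sub_of_left hlt⟩

/-- the distance polynomials -/
noncomputable def phi (p q : K) : ℕ → K[X]
  | 0 => 1
  | j + 1 => V (p * q) (j + 2) + C (p - 1) * V (p * q) (j + 1) - C p * V (p * q) j

theorem phi_zero (p q : K) : phi p q 0 = 1 := rfl

theorem phi_succ (p q : K) (j : ℕ) :
    phi p q (j + 1) = V (p * q) (j + 2) + C (p - 1) * V (p * q) (j + 1) - C p * V (p * q) j := rfl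

theorem phi_one (p q : K) : phi p q 1 = X + C (p - 1) := by simp [phi_succ, V_two, V_one, V_zero]

theorem phi_two (p q : K) : phi p q 2 = X * phi p q 1 - C (p * (q + 1)) * phi p q 0 := by
  rw [phi_one, phi_succ, phi_zero, V_add_two, V_two, V_one]
  simp only [map_mul, map_add, map_one, map_sub]
  ring

theorem phi_add_three (p q : K) (j : ℕ) :
    phi p q (j + 3) = X * phi p q (j + 2) - C (p * q) * phi p q (j + 1) := by
  simp only [phi_succ, V_add_two]
  ring

/-- the annihilator in the even case -/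
theorem ann_even (p q : K) (k : ℕ) :
    (X - C (q * (p - 1))) * phi p q (k + 2) - C (p * q * (q + 1)) * phi p q (k + 1) =
      (X - C (p * q + 1)) * (X - C (-(p + q))) * V (p * q) (k + 2) := by
  rw [phi_succ, phi_succ, V_add_two (p * q) (k + 1), V_add_two (p * q) k]
  simp only [map_sub, map_mul, map_add, map_one, map_neg]
  ring

/-- the annihilator in the odd case -/
theorem ann_odd (q : K) (k : ℕ) :
    (X - C (q * q)) * phi q q (k + 2) - C (q * q) * phi q q (k + 1) =
      (X - C (q * q + 1)) * (V (q * q) (k + 3) + C q * V (q * q) (k + 2)) := by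
  rw [phi_succ, phi_succ, V_add_two (q * q) (k + 1), V_add_two (q * q) k]
  simp only [map_sub, map_mul, map_add, map_one]
  ring

/-- the values of the trace functional on `V n` -/
def bval (p : K) (n : ℕ) : K := (1 - (-p) ^ n) / (1 + p)

theorem tau_V {p q : K} (hp : 1 + p ≠ 0) (τ : K[X] →ₗ[K] K) {N : K} {h : ℕ} (h1 : τ 1 = N)
    (hphi : ∀ j, 1 ≤ j → j ≤ h → τ (phi p q j) = 0) :
    ∀ n, n ≤ h + 1 → τ (V (p * q) n) = N * bval p n := by
  intro n
  induction n using Nat.strong_induction_on with
  | _ n ih =>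
    intro hn
    match n, hn, ih with
    | 0, _, _ => simp [V_zero, bval]
    | 1, _, _ => rw [V_one, h1, bval, pow_one, sub_neg_eq_add, div_self hp, mul_one]
    | j + 2, hn, ih =>
      have e := hphi (j + 1) (by omega) (by omega)
      rw [phi_succ, map_sub, map_add, ← smul_eq_C_mul, ← smul_eq_C_mul, map_smul, map_smul,
        ih (j + 1) (by omega) (by omega), ih j (by omega) (by omega), smul_eq_mul, smul_eq_mul] at e
      have e2 : τ (V (p * q) (j + 2)) = p * (N * bval p j) - (p - 1) * (N * bval p (j + 1)) := by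
        linear_combination e
      rw [e2, bval, bval, bval]
      field_simp
      ring

theorem X_mul_V (P : K) (n : ℕ) : X * V P (n + 1) = V P (n + 2) + C P * V P n := by
  rw [V_add_two]; ring

theorem tau_even {p q : K} (hp : 1 + p ≠ 0) (τ : K[X] →ₗ[K] K) {N : K} {h : ℕ} (h1 : τ 1 = N)
    (hphi : ∀ j, 1 ≤ j → j ≤ h → τ (phi p q j) = 0) {n : ℕ} (hn : n + 1 ≤ h) :
    τ ((X - C (p * q + 1)) * (X - C (-(p + q))) * V (p * q) n) =
      if n = 1 then -(N * (p * q * (q + 1))) else 0 := by
  have hV := tau_V hp τ h1 hphi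
  have expand : (X - C (p * q + 1)) * (X - C (-(p + q))) * V (p * q) n =
      X * (X * V (p * q) n) - (p * q + 1 + -(p + q)) • (X * V (p * q) n) +
        ((p * q + 1) * -(p + q)) • V (p * q) n := by
    simp only [smul_eq_C_mul, map_add, map_mul, map_neg, map_one]
    ring
  rw [expand]
  match n, hn with
  | 0, _ => simp [V_zero]
  | 1, hn =>
    have e1 : X * V (p * q) 1 = V (p * q) 2 := by simp [V_two, V_one]
    have e2 : X * V (p * q) 2 = V (p * q) 3 + (p * q) • V (p * q) 1 := by
      rw [X_mul_V, smul_eq_C_mul]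
    rw [e1, e2, if_pos rfl]
    simp only [map_add, map_sub, map_smul, smul_eq_mul, hV 3 (by omega), hV 2 (by omega), hV 1 (by omega), bval]
    field_simp
    ring
  | k + 2, hn =>
    have e1 : X * V (p * q) (k + 2) = V (p * q) (k + 3) + (p * q) • V (p * q) (k + 1) := by
      rw [X_mul_V, smul_eq_C_mul]
    have e2 : X * (V (p * q) (k + 3) + (p * q) • V (p * q) (k + 1)) =
        V (p * q) (k + 4) + (p * q) • V (p * q) (k + 2) +
          (p * q) • (V (p * q) (k + 2) + (p * q) • V (p * q) k) := by
      rw [mul_add, Algebra.mul_smul_comm, X_mul_V, X_mul_V]; simp only [smul_eq_C_mul]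
    rw [e1, e2, if_neg (by omega)]
    simp only [map_add, map_sub, map_smul, smul_eq_mul, hV (k + 4) (by omega), hV (k + 3) (by omega),
      hV (k + 2) (by omega), hV (k + 1) (by omega), hV k (by omega), bval]
    field_simp
    ring

theorem tau_odd {q : K} (hp : 1 + q ≠ 0) (τ : K[X] →ₗ[K] K) {N : K} {h : ℕ} (h1 : τ 1 = N)
    (hphi : ∀ j, 1 ≤ j → j ≤ h → τ (phi q q j) = 0) {n : ℕ} (hn : n + 1 ≤ h) :
    τ ((X - C (q * q + 1)) * V (q * q) (n + 1)) = N * ((q + 1) * (-q) ^ (n + 1)) := by
  have hV := tau_V hp τ h1 hphi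
  have e : (X - C (q * q + 1)) * V (q * q) (n + 1) =
      V (q * q) (n + 2) + (q * q) • V (q * q) n - (q * q + 1) • V (q * q) (n + 1) := by
    rw [sub_mul, X_mul_V, smul_eq_C_mul, smul_eq_C_mul]
  rw [e]
  simp only [map_add, map_sub, map_smul, smul_eq_mul, hV (n + 2) (by omega), hV (n + 1) (by omega),
    hV n (by omega), bval]
  field_simp
  ring

/-- the quotient of `V n - V n (y)` by `X - y` -/
noncomputable def quot (P : K) (n : ℕ) (y : K) : K[X] :=
  ∑ i ∈ Finset.range n, C ((V P i).eval y) * V P (n - i)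

theorem quot_add_two (P : K) (n : ℕ) (y : K) :
    quot P (n + 2) y = X * quot P (n + 1) y - C P * quot P n y + C ((V P (n + 1)).eval y) := by
  simp only [quot, Finset.sum_range_succ, Nat.add_sub_cancel_left, show n + 2 - n = 2 by omega,
    show n + 1 - n = 1 by omega, show n + 2 - (n + 1) = 1 by omega, V_one, V_two, mul_one]
  rw [mul_add, Finset.mul_sum, Finset.mul_sum, mul_comm X (C _)]
  have : ∀ i ∈ Finset.range n, C ((V P i).eval y) * V P (n + 2 - i) =
      X * (C ((V P i).eval y) * V P (n + 1 - i)) - C P * (C ((V P i).eval y) * V P (n - i)) := by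
    intro i hi
    rw [Finset.mem_range] at hi
    obtain ⟨d, hd⟩ : ∃ d, n = i + d := ⟨n - i, by omega⟩
    subst hd
    rw [show i + d + 2 - i = d + 2 by omega, show i + d + 1 - i = d + 1 by omega, show i + d - i = d by omega,
      V_add_two]
    ring
  rw [Finset.sum_congr rfl this, Finset.sum_sub_distrib]
  ring

theorem quot_spec (P : K) (y : K) : ∀ n, (X - C y) * quot P n y = V P n - C ((V P n).eval y)
  | 0 => by simp [quot, V_zero]
  | 1 => by simp [quot, V_zero, V_one]
  | n + 2 => by
    have h1 := quot_spec P y (n + 1)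
    have h0 := quot_spec P y n
    rw [quot_add_two]
    calc (X - C y) * (X * quot P (n + 1) y - C P * quot P n y + C ((V P (n + 1)).eval y))
        = X * ((X - C y) * quot P (n + 1) y) - C P * ((X - C y) * quot P n y) +
            (X - C y) * C ((V P (n + 1)).eval y) := by ring
      _ = V P (n + 2) - C ((V P (n + 2)).eval y) := by
        rw [h1, h0, V_add_two]
        simp only [eval_sub, eval_mul, eval_X, eval_C, map_sub, map_mul]
        ring

/-- the quotient evaluated at `y` is the derivative -/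
theorem quot_eval (P : K) (y : K) (n : ℕ) : (quot P n y).eval y = (derivative (V P n)).eval y := by
  have h := congrArg (fun f => (derivative f).eval y) (quot_spec P y n)
  simpa [derivative_mul] using h

theorem natDegree_quot_le (P : K) (y : K) (n : ℕ) : (quot P n y).natDegree ≤ n - 2 := by
  refine natDegree_sum_le_of_forall_le _ _ fun i hi => ?_
  rw [Finset.mem_range] at hi
  rcases Nat.eq_zero_or_pos i with rfl | hi0
  · simp [V_zero]
  obtain ⟨d, hd⟩ : ∃ d, n - i = d + 1 := ⟨n - i - 1, by omega⟩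
  refine (natDegree_C_mul_le _ _).trans ?_
  rw [hd, (natDegree_V P d).1]
  omega

theorem tau_quot_even {p q : K} (hp : 1 + p ≠ 0) (τ : K[X] →ₗ[K] K) {N : K} {h : ℕ} (h1 : τ 1 = N)
    (hphi : ∀ j, 1 ≤ j → j ≤ h → τ (phi p q j) = 0) (hh : 2 ≤ h) (y : K) :
    τ ((X - C (p * q + 1)) * (X - C (-(p + q))) * quot (p * q) h y) =
      -(N * (p * q * (q + 1))) * (V (p * q) (h - 1)).eval y := by
  rw [quot, Finset.mul_sum, map_sum, Finset.sum_eq_single (h - 1)]
  · rw [mul_left_comm, ← smul_eq_C_mul, map_smul, show h - (h - 1) = 1 by omega,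
      tau_even hp τ h1 hphi (n := 1) (by omega), if_pos rfl, smul_eq_mul, mul_comm]
  · intro i hi hne
    rw [Finset.mem_range] at hi
    rcases Nat.eq_zero_or_pos i with rfl | hi0
    · simp [V_zero]
    rw [mul_left_comm, ← smul_eq_C_mul, map_smul, tau_even hp τ h1 hphi (by omega), if_neg (by omega),
      smul_zero]
  · intro hm
    exact absurd (Finset.mem_range.2 (by omega)) hm

theorem tau_quot_odd {q : K} (hp : 1 + q ≠ 0) (τ : K[X] →ₗ[K] K) {N : K} {h : ℕ} (h1 : τ 1 = N)
    (hphi : ∀ j, 1 ≤ j → j ≤ h → τ (phi q q j) = 0) (y : K) :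
    τ ((X - C (q * q + 1)) * (quot (q * q) (h + 1) y + C q * quot (q * q) h y)) =
      -(N * (q * (q + 1))) * (V (q * q) h).eval y := by
  have ht : ∀ n ≤ h + 1, ∀ i < n, τ ((X - C (q * q + 1)) * (C ((V (q * q) i).eval y) * V (q * q) (n - i))) =
      (V (q * q) i).eval y * (N * ((q + 1) * (-q) ^ (n - i))) := by
    intro n hn i hi
    rcases Nat.eq_zero_or_pos i with rfl | hi0
    · simp [V_zero]
    obtain ⟨d, hd⟩ : ∃ d, n - i = d + 1 := ⟨n - i - 1, by omega⟩
    rw [mul_left_comm, ← smul_eq_C_mul, map_smul, smul_eq_mul, hd, tau_odd hp τ h1 hphi (by omega)]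
  rw [mul_add, mul_left_comm (X - C (q * q + 1)) (C q), map_add, ← smul_eq_C_mul, map_smul, smul_eq_mul,
    quot, quot, Finset.mul_sum, Finset.mul_sum, map_sum, map_sum,
    Finset.sum_congr rfl (fun i hi => ht (h + 1) le_rfl i (Finset.mem_range.1 hi)),
    Finset.sum_congr rfl (fun i hi => ht h (by omega) i (Finset.mem_range.1 hi)),
    Finset.sum_range_succ, Finset.mul_sum, add_right_comm, ← Finset.sum_add_distrib]
  rw [Finset.sum_eq_zero (fun i hi => ?_), Nat.add_sub_cancel_left]
  · ring
  · rw [Finset.mem_range] at hi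
    rw [show h + 1 - i = h - i + 1 by omega, pow_succ]
    ring

end CfsgLib.Lie.FeitHigman
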