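import Cfsg.Agent.Lib.Lie.FeitHigman.Cheb

/-!
# Roots of the polynomials of generalised polygons
-/

set_option autoImplicit false

namespace CfsgLib.Lie.FeitHigman

open Polynomial Real

theorem sin_step (θ : ℝ) (n : ℕ) :
    sin (((n + 2 : ℕ) : ℝ) * θ) = 2 * cos θ * sin (((n + 1 : ℕ) : ℝ) * θ) - sin ((n : ℝ) * θ) := by
  have h1 := sin_add (((n + 1 : ℕ) : ℝ) * θ) θ
  have h2 := sin_sub (((n + 1 : ℕ) : ℝ) * θ) θ
  rw [show ((n + 1 : ℕ) : ℝ) * θ + θ = ((n + 2 : ℕ) : ℝ) * θ by push_cast; ring] at h1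
  rw [show ((n + 1 : ℕ) : ℝ) * θ - θ = (n : ℝ) * θ by push_cast; ring] at h2
  linear_combination h1 + h2

theorem V_trig (r θ : ℝ) : ∀ n : ℕ,
    r * (V (r ^ 2) n).eval (2 * r * cos θ) * sin θ = r ^ n * sin ((n : ℝ) * θ)
  | 0 => by simp [V_zero]
  | 1 => by simp [V_one]
  | n + 2 => by
    have h1 := V_trig r θ (n + 1)
    have h0 := V_trig r θ n
    rw [V_add_two, eval_sub, eval_mul, eval_mul, eval_X, eval_C, sin_step]
    linear_combination (2 * r * cos θ) * h1 - r ^ 2 * h0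

theorem V_trig_deriv (r θ : ℝ) (n : ℕ) :
    r * ((derivative (V (r ^ 2) n)).eval (2 * r * cos θ) * (-(2 * r * sin θ)) * sin θ +
      (V (r ^ 2) n).eval (2 * r * cos θ) * cos θ) = r ^ n * (n * cos ((n : ℝ) * θ)) := by
  have hl : HasDerivAt (fun t => r * ((V (r ^ 2) n).eval (2 * r * cos t) * sin t))
      (r * ((derivative (V (r ^ 2) n)).eval (2 * r * cos θ) * (-(2 * r * sin θ)) * sin θ +
        (V (r ^ 2) n).eval (2 * r * cos θ) * cos θ)) θ := by
    have h1 : HasDerivAt (fun t => 2 * r * cos t) (-(2 * r * sin θ)) θ := by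
      have := (hasDerivAt_cos θ).const_mul (2 * r)
      simpa using this
    exact (((Polynomial.hasDerivAt _ _).comp θ h1).mul (hasDerivAt_sin θ)).const_mul r
  have hr : HasDerivAt (fun t : ℝ => r ^ n * sin ((n : ℝ) * t)) (r ^ n * (n * cos ((n : ℝ) * θ))) θ := by
    have h1 := ((hasDerivAt_id θ).const_mul (n : ℝ)).sin.const_mul (r ^ n)
    simpa [mul_comm, mul_left_comm] using h1
  refine hl.unique (hr.congr_of_eventuallyEq (Filter.Eventually.of_forall fun t => ?_))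
  have := V_trig r t n
  linear_combination this

theorem sin_pos_of_lt {k m : ℝ} (hk : 0 < k) (hkm : k < m) : 0 < sin (π * k / m) := by
  refine sin_pos_of_pos_of_lt_pi (div_pos (mul_pos pi_pos hk) (by linarith)) ?_
  rw [div_lt_iff₀ (by linarith)]
  exact mul_lt_mul_of_pos_left hkm pi_pos

/-- facts about the roots in the even case -/
theorem even_root {r : ℝ} (hr : 0 < r) {h k : ℕ} (hk : 1 ≤ k) (hkh : k < h) :
    (V (r ^ 2) h).eval (2 * r * cos (π * k / h)) = 0 ∧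
    (derivative (V (r ^ 2) h)).eval (2 * r * cos (π * k / h)) ≠ 0 ∧
    2 * r ^ 2 * h * (V (r ^ 2) (h - 1)).eval (2 * r * cos (π * k / h)) =
      (4 * r ^ 2 - (2 * r * cos (π * k / h)) ^ 2) *
        (derivative (V (r ^ 2) h)).eval (2 * r * cos (π * k / h)) := by
  obtain ⟨g, rfl⟩ : ∃ g, h = g + 1 := ⟨h - 1, by omega⟩
  set θ := π * k / ((g + 1 : ℕ) : ℝ) with hθ
  have hg : ((g + 1 : ℕ) : ℝ) ≠ 0 := by positivity
  have hs : 0 < sin θ := sin_pos_of_lt (by exact_mod_cast hk) (by exact_mod_cast hkh)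
  have hnθ : ((g + 1 : ℕ) : ℝ) * θ = (k : ℕ) * π := by rw [hθ]; field_simp
  have hsin : sin (((g + 1 : ℕ) : ℝ) * θ) = 0 := by rw [hnθ]; exact sin_nat_mul_pi k
  set c := cos (((g + 1 : ℕ) : ℝ) * θ) with hc
  have hc0 : c ≠ 0 := fun e => by
    have := sin_sq_add_cos_sq (((g + 1 : ℕ) : ℝ) * θ)
    rw [hsin, ← hc, e] at this
    norm_num at this
  have h0 : (V (r ^ 2) (g + 1)).eval (2 * r * cos θ) = 0 := by
    have := V_trig r θ (g + 1)
    rw [hsin, mul_zero] at this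
    simpa [hr.ne', hs.ne'] using this
  have hd := V_trig_deriv r θ (g + 1)
  rw [h0, zero_mul, add_zero, ← hc] at hd
  have hv := V_trig r θ g
  have hsg : sin ((g : ℝ) * θ) = -(c * sin θ) := by
    rw [show (g : ℝ) * θ = ((g + 1 : ℕ) : ℝ) * θ - θ by push_cast; ring, sin_sub, hsin, ← hc]
    ring
  rw [hsg] at hv
  refine ⟨h0, fun e => ?_, ?_⟩
  · rw [e] at hd
    simp only [zero_mul, mul_zero] at hd
    exact mul_ne_zero (pow_ne_zero _ hr.ne') (mul_ne_zero hg hc0) hd.symm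
  · rw [Nat.add_sub_cancel]
    refine mul_right_cancel₀ hs.ne' ?_
    linear_combination (2 * r * ((g + 1 : ℕ) : ℝ)) * hv + (2 * sin θ) * hd +
      (4 * r ^ 2 * sin θ * (derivative (V (r ^ 2) (g + 1))).eval (2 * r * cos θ)) * sin_sq_add_cos_sq θ

/-- facts about the roots in the odd case -/
theorem odd_root {q : ℝ} (hq : 0 < q) {h k : ℕ} (hk : 1 ≤ k) (hkh : k ≤ h) :
    (V (q ^ 2) (h + 1) + C q * V (q ^ 2) h).eval (2 * q * cos (2 * π * k / (2 * h + 1))) = 0 ∧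
    (derivative (V (q ^ 2) (h + 1) + C q * V (q ^ 2) h)).eval (2 * q * cos (2 * π * k / (2 * h + 1))) ≠ 0 ∧
    q * (2 * h + 1) * (V (q ^ 2) h).eval (2 * q * cos (2 * π * k / (2 * h + 1))) =
      (2 * q - 2 * q * cos (2 * π * k / (2 * h + 1))) *
        (derivative (V (q ^ 2) (h + 1) + C q * V (q ^ 2) h)).eval (2 * q * cos (2 * π * k / (2 * h + 1))) := by
  set θ := 2 * π * k / (2 * (h : ℝ) + 1) with hθ
  have hm : (0 : ℝ) < 2 * h + 1 := by positivity
  have hs : 0 < sin θ := by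
    rw [hθ, show 2 * π * (k : ℝ) / (2 * h + 1) = π * ((2 * k : ℕ) : ℝ) / (2 * h + 1) by push_cast; ring]
    exact sin_pos_of_lt (by exact_mod_cast (by omega : 0 < 2 * k))
      (by exact_mod_cast (by omega : 2 * k < 2 * h + 1))
  have hfull : ((h + 1 : ℕ) : ℝ) * θ = (k : ℕ) * (2 * π) - (h : ℝ) * θ := by
    rw [hθ]; field_simp; push_cast; ring
  have hsin : sin (((h + 1 : ℕ) : ℝ) * θ) = -sin ((h : ℝ) * θ) := by
    rw [hfull]; exact sin_nat_mul_two_pi_sub _ k
  have hcos : cos (((h + 1 : ℕ) : ℝ) * θ) = cos ((h : ℝ) * θ) := by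
    rw [hfull]; exact cos_nat_mul_two_pi_sub _ k
  set s := sin ((h : ℝ) * θ) with hsd
  set c := cos ((h : ℝ) * θ) with hcd
  have hθ2 : θ = ((h + 1 : ℕ) : ℝ) * θ - (h : ℝ) * θ := by push_cast; ring
  have hsθ : sin θ = -(2 * s * c) := by
    conv_lhs => rw [hθ2, sin_sub, hsin, hcos, ← hsd, ← hcd]
    ring
  have hcθ : cos θ = c ^ 2 - s ^ 2 := by
    conv_lhs => rw [hθ2, cos_sub, hsin, hcos, ← hsd, ← hcd]
    ring
  have hc0 : c ≠ 0 := fun e => by rw [e] at hsθ; simp at hsθ; exact hs.ne' hsθ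
  have h1 := V_trig q θ (h + 1)
  have h2 := V_trig q θ h
  rw [hsin] at h1
  rw [← hsd] at h2
  have h0 : (V (q ^ 2) (h + 1) + C q * V (q ^ 2) h).eval (2 * q * cos θ) = 0 := by
    have : q * sin θ * (V (q ^ 2) (h + 1) + C q * V (q ^ 2) h).eval (2 * q * cos θ) = 0 := by
      simp only [eval_add, eval_mul, eval_C]
      linear_combination h1 + q * h2
    simpa [hq.ne', hs.ne'] using this
  have hd1 := V_trig_deriv q θ (h + 1)
  have hd2 := V_trig_deriv q θ h
  rw [hcos] at hd1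
  rw [← hcd] at hd2
  set D := (derivative (V (q ^ 2) (h + 1) + C q * V (q ^ 2) h)).eval (2 * q * cos θ) with hD
  have hD' : D = (derivative (V (q ^ 2) (h + 1))).eval (2 * q * cos θ) +
      q * (derivative (V (q ^ 2) h)).eval (2 * q * cos θ) := by
    rw [hD, derivative_add, derivative_C_mul, eval_add, eval_mul, eval_C]
  have hd : q * (D * (-(2 * q * sin θ)) * sin θ) = q ^ (h + 1) * ((2 * h + 1) * c) := by
    have e0 : (V (q ^ 2) (h + 1)).eval (2 * q * cos θ) + q * (V (q ^ 2) h).eval (2 * q * cos θ) = 0 := by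
      simpa using h0
    rw [hD']
    push_cast at hd1
    linear_combination hd1 + q * hd2 - (q * cos θ) * e0
  refine ⟨h0, fun e => ?_, ?_⟩
  · rw [e] at hd
    simp only [zero_mul, mul_zero] at hd
    exact mul_ne_zero (pow_ne_zero _ hq.ne') (mul_ne_zero hm.ne' hc0) hd.symm
  · refine mul_right_cancel₀ (pow_ne_zero 2 hs.ne') ?_
    refine mul_right_cancel₀ hq.ne' ?_
    linear_combination ((2 * h + 1) * q * sin θ) * h2 + (1 - cos θ) * hd +
      ((2 * h + 1) * q ^ (h + 1) * s) * hsθ - ((2 * h + 1) * q ^ (h + 1) * c) * hcθ +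
      (-((2 * h + 1) * q ^ (h + 1) * c)) * (sin_sq_add_cos_sq ((h : ℝ) * θ))

/-- a polynomial of degree at most `card s` vanishing on `s` has no further roots -/
theorem mem_of_root {f : ℝ[X]} (hf : f ≠ 0) {s : Finset ℝ} (hd : f.natDegree ≤ s.card)
    (hs : ∀ y ∈ s, f.eval y = 0) {x : ℝ} (hx : f.eval x = 0) : x ∈ s := by
  classical
  by_contra hne
  have h1 : insert x s ⊆ f.roots.toFinset := fun y hy => by
    rw [Multiset.mem_toFinset, mem_roots hf]
    rcases Finset.mem_insert.1 hy with rfl | hy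
    · exact hx
    · exact hs y hy
  have h2 := Finset.card_le_card h1
  rw [Finset.card_insert_of_notMem hne] at h2
  have h3 := (Multiset.toFinset_card_le f.roots).trans (card_roots' f)
  omega

theorem even_roots {r : ℝ} (hr : 0 < r) {h : ℕ} (hh : 1 ≤ h) {x : ℝ} (hx : (V (r ^ 2) h).eval x = 0) :
    ∃ k : ℕ, 1 ≤ k ∧ k < h ∧ x = 2 * r * cos (π * k / h) := by
  classical
  obtain ⟨g, rfl⟩ : ∃ g, h = g + 1 := ⟨h - 1, by omega⟩
  obtain ⟨hd, hm⟩ := natDegree_V (r ^ 2) g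
  have := mem_of_root hm.ne_zero
    (s := (Finset.Icc 1 g).image fun k : ℕ => 2 * r * cos (π * k / (g + 1 : ℕ))) ?_ ?_ hx
  · obtain ⟨k, hk, rfl⟩ := Finset.mem_image.1 this
    rw [Finset.mem_Icc] at hk
    exact ⟨k, hk.1, by omega, rfl⟩
  · rw [hd, Finset.card_image_of_injOn, Nat.card_Icc, Nat.add_sub_cancel]
    intro a ha b hb e
    rw [Finset.coe_Icc, Set.mem_Icc] at ha hb
    have hpos : (0 : ℝ) < (g + 1 : ℕ) := by positivity
    have hI : ∀ c : ℕ, c ≤ g → π * c / (g + 1 : ℕ) ∈ Set.Icc 0 π := fun c hc => by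
      refine ⟨by positivity, (div_le_iff₀ hpos).2 ?_⟩
      exact mul_le_mul_of_nonneg_left (by exact_mod_cast hc.trans (Nat.le_succ g)) pi_pos.le
    have h1 := injOn_cos (hI a ha.2) (hI b hb.2) (mul_left_cancel₀ (by positivity) e)
    field_simp at h1
    exact_mod_cast h1
  · intro y hy
    obtain ⟨k, hk, rfl⟩ := Finset.mem_image.1 hy
    rw [Finset.mem_Icc] at hk
    exact (even_root hr hk.1 (by omega)).1

theorem odd_roots {q : ℝ} (hq : 0 < q) {h : ℕ} (hh : 1 ≤ h) {x : ℝ}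
    (hx : (V (q ^ 2) (h + 1) + C q * V (q ^ 2) h).eval x = 0) :
    ∃ k : ℕ, 1 ≤ k ∧ k ≤ h ∧ x = 2 * q * cos (2 * π * k / (2 * h + 1)) := by
  classical
  obtain ⟨hd, hm⟩ := natDegree_V (q ^ 2) h
  obtain ⟨g, hg⟩ : ∃ g, h = g + 1 := ⟨h - 1, by omega⟩
  have hd' : (C q * V (q ^ 2) h).natDegree < (V (q ^ 2) (h + 1)).natDegree := by
    refine (natDegree_C_mul_le _ _).trans_lt ?_
    rw [hd, hg, (natDegree_V (q ^ 2) g).1]
    omega
  have hdeg : (V (q ^ 2) (h + 1) + C q * V (q ^ 2) h).natDegree = h := by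
    rw [natDegree_add_eq_left_of_natDegree_lt hd', hd]
  have hne : V (q ^ 2) (h + 1) + C q * V (q ^ 2) h ≠ 0 := fun e => by
    rw [e, natDegree_zero] at hdeg; omega
  have := mem_of_root hne
    (s := (Finset.Icc 1 h).image fun k : ℕ => 2 * q * cos (2 * π * k / (2 * h + 1))) ?_ ?_ hx
  · obtain ⟨k, hk, rfl⟩ := Finset.mem_image.1 this
    rw [Finset.mem_Icc] at hk
    exact ⟨k, hk.1, hk.2, rfl⟩
  · rw [hdeg, Finset.card_image_of_injOn, Nat.card_Icc, Nat.add_sub_cancel]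
    intro a ha b hb e
    rw [Finset.coe_Icc, Set.mem_Icc] at ha hb
    have hI : ∀ c : ℕ, c ≤ h → 2 * π * c / (2 * (h : ℝ) + 1) ∈ Set.Icc 0 π := fun c hc => by
      refine ⟨by positivity, (div_le_iff₀ (by positivity)).2 ?_⟩
      have : (c : ℝ) ≤ h := by exact_mod_cast hc
      nlinarith [pi_pos]
    have h1 := injOn_cos (hI a ha.2) (hI b hb.2) (mul_left_cancel₀ (by positivity) e)
    field_simp at h1
    exact_mod_cast h1
  · intro y hy
    obtain ⟨k, hk, rfl⟩ := Finset.mem_image.1 hy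
    rw [Finset.mem_Icc] at hk
    exact (odd_root hq hk.1 hk.2).1

end CfsgLib.Lie.FeitHigman
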