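import Cfsg.Agent.Lib.Lie.FeitHigman.Number
import Cfsg.Agent.Lib.Lie.FeitHigman.Trig
import Cfsg.Agent.Lib.Lie.FeitHigman.Algebra

/-!
# Multiplicities of the eigenvalues: the theorem of Feit and Higman for Hecke matrices
-/

set_option autoImplicit false

namespace CfsgLib.Lie.FeitHigman

open Polynomial Matrix Unitary

section Hermitian

variable {ι : Type*} [Fintype ι] [DecidableEq ι] {A : Matrix ι ι ℝ}

theorem aeval_hermitian (hA : A.IsHermitian) (g : ℝ[X]) :
    aeval A g = conjStarAlgAut ℝ _ hA.eigenvectorUnitary (diagonal fun i => g.eval (hA.eigenvalues i)) := by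
  have h : A = conjStarAlgAut ℝ _ hA.eigenvectorUnitary (diagonal hA.eigenvalues) := by
    simpa using hA.spectral_theorem
  conv_lhs => rw [h]
  rw [Polynomial.aeval_algHom_apply]
  congr 1
  rw [← diagonalAlgHom_apply ℝ, Polynomial.aeval_algHom_apply, diagonalAlgHom_apply]
  congr 1
  funext i
  rw [← coe_aeval_eq_eval]
  exact (Polynomial.aeval_algHom_apply (Pi.evalAlgHom ℝ (fun _ => ℝ) i) hA.eigenvalues g).symm

theorem trace_aeval_hermitian (hA : A.IsHermitian) (g : ℝ[X]) :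
    (aeval A g).trace = ∑ i, g.eval (hA.eigenvalues i) := by
  rw [aeval_hermitian hA g, conjStarAlgAut_apply, Matrix.trace_mul_cycle, Unitary.coe_star_mul_self, one_mul,
    trace_diagonal]

theorem eval_eq_zero_of_aeval (hA : A.IsHermitian) {g : ℝ[X]} (h : aeval A g = 0) {x : ℝ}
    (hx : x ∈ A.charpoly.roots) : g.eval x = 0 := by
  rw [hA.roots_charpoly_eq_eigenvalues] at hx
  obtain ⟨i, -, rfl⟩ := Multiset.mem_map.1 hx
  rw [aeval_hermitian hA g, map_eq_zero_iff _ (EquivLike.injective _)] at h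
  have := congrFun (congrFun h i) i
  simpa using this

theorem trace_eq_count (hA : A.IsHermitian) (g : ℝ[X]) (y : ℝ)
    (hg : ∀ x ∈ A.charpoly.roots, x ≠ y → g.eval x = 0) :
    (aeval A g).trace = (A.charpoly.roots.count y : ℝ) * g.eval y := by
  classical
  rw [trace_aeval_hermitian hA g]
  rw [← Finset.sum_filter_of_ne (p := fun i => hA.eigenvalues i = y) (fun i _ hne => by
    by_contra hy
    refine hne (hg _ ?_ hy)
    rw [hA.roots_charpoly_eq_eigenvalues]
    exact Multiset.mem_map.2 ⟨i, Finset.mem_univ i, rfl⟩)]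
  rw [Finset.sum_congr rfl (fun i hi => by rw [(Finset.mem_filter.1 hi).2]), Finset.sum_const, nsmul_eq_mul]
  congr 2
  rw [hA.roots_charpoly_eq_eigenvalues, Multiset.count_map, Finset.card_def, Finset.filter_val]
  congr 1
  exact Multiset.filter_congr fun i _ => by simp [eq_comm]

end Hermitian

variable {ι : Type*} [Fintype ι] [DecidableEq ι]

/-- The matrix form of the theorem of Feit and Higman. -/
theorem no_polygon [Nonempty ι] {m : ℕ} (hm : 2 ≤ m) (hm' : m ∉ ({2, 3, 4, 6, 8} : Set ℕ)) {p q : ℚ}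
    (hp : 2 ≤ p) (hq : 2 ≤ q) (hpq : Odd m → p = q) (S T : Matrix ι ι ℚ) (hSsym : S.transpose = S)
    (hTsym : T.transpose = T) (h : Quad p q S T)
    (hbe : ∀ k, m = 2 * k → (T * S) ^ k = (S * T) ^ k)
    (hbo : ∀ k, m = 2 * k + 1 → (T * S) ^ k * T = (S * T) ^ k * S)
    (hS0 : S.trace = 0) (htr : ∀ j, 2 * j + 1 ≤ m → ((T * S) ^ j * T).trace = 0)
    (htr2 : ∀ j, 2 * j + 2 ≤ m → ((S * T) ^ (j + 1)).trace = 0) : False := by
  set f := (algebraMap ℚ ℝ).mapMatrix (m := ι) with hf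
  have fsmul : ∀ (c : ℚ) (M : Matrix ι ι ℚ), f (c • M) = (c : ℝ) • f M := fun c M => by
    ext i j
    simp [hf]
  have ftr : ∀ M : Matrix ι ι ℚ, (f M).trace = (M.trace : ℝ) := fun M => by
    simp [hf, Matrix.trace]
  set SR := f S with hSR
  set TR := f T with hTR
  have hR : Quad (p : ℝ) (q : ℝ) SR TR := by
    refine ⟨?_, ?_⟩
    · rw [hSR, ← map_mul, h.hS, map_add, fsmul, fsmul, map_one]; push_cast; rfl
    · rw [hTR, ← map_mul, h.hT, map_add, fsmul, fsmul, map_one]; push_cast; rfl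
  have hqR : (2 : ℝ) ≤ q := by exact_mod_cast hq
  have hpR : (2 : ℝ) ≤ p := by exact_mod_cast hp
  have hq1 : (q : ℝ) + 1 ≠ 0 := by linarith
  set ZR := Z (p : ℝ) (q : ℝ) SR TR with hZR
  have hZmap : ZR = f (Z p q S T) := by
    simp only [hZR, Z, G_zero, G_succ, pow_zero, mul_one, map_add, map_sub, map_mul, map_one, fsmul, hSR, hTR]
    push_cast
    rfl
  have hherm : ZR.IsHermitian := by
    show ZR.conjTranspose = ZR
    have hS' : SR.transpose = SR := by rw [hSR, hf, RingHom.mapMatrix_apply, ← transpose_map, hSsym]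
    have hT' : TR.transpose = TR := by rw [hTR, hf, RingHom.mapMatrix_apply, ← transpose_map, hTsym]
    rw [conjTranspose_eq_transpose_of_trivial, hZR, Z, G_zero, G_succ, pow_zero, mul_one]
    simp only [transpose_add, transpose_sub, transpose_smul, transpose_mul, transpose_one, hS', hT', mul_assoc]
  have hchar : (Z p q S T).charpoly.map (algebraMap ℚ ℝ) = ZR.charpoly := by
    rw [hZmap, hf, RingHom.mapMatrix_apply, Matrix.charpoly_map]
  have hf0 : (Z p q S T).charpoly ≠ 0 := (Matrix.charpoly_monic _).ne_zero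
  have hspl : ((Z p q S T).charpoly.map (algebraMap ℚ ℝ)).Splits := by
    rw [hchar, hherm.charpoly_eq]
    exact Polynomial.Splits.prod fun i _ => Polynomial.Splits.X_sub_C _
  have hmemroot : ∀ x : ℝ, aeval x (Z p q S T).charpoly = 0 → x ∈ ZR.charpoly.roots := fun x hx => by
    rw [← hchar, mem_roots (Polynomial.map_ne_zero hf0), IsRoot.def, eval_map, ← aeval_def, hx]
  -- the trace functional
  let τ : ℝ[X] →ₗ[ℝ] ℝ :=
    (Matrix.traceLinearMap ι ℝ ℝ) ∘ₗ (LinearMap.mulRight ℝ (G SR TR 0)) ∘ₗ (aeval ZR).toLinearMap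
  have hτ : ∀ g, τ g = (aeval ZR g * G SR TR 0).trace := fun g => rfl
  set N := (Fintype.card ι : ℝ) with hN
  have hN0 : 0 < N := by rw [hN]; exact_mod_cast Fintype.card_pos
  have hτ1 : τ 1 = N := by
    rw [hτ, map_one, one_mul, G_zero, trace_add, trace_one, hSR, ftr, hS0, Rat.cast_zero, add_zero]
  have hGtr : ∀ j, 1 ≤ j → 2 * j ≤ m → τ (phi (p : ℝ) q j) = 0 := by
    intro j hj hjm
    obtain ⟨i, rfl⟩ : ∃ i, j = i + 1 := ⟨j - 1, by omega⟩
    rw [hτ, hR.aeval_phi hq1, G_succ, trace_mul_comm, ← mul_assoc, ← mul_assoc, hR.ee, smul_mul_assoc,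
      smul_mul_assoc, trace_smul, mul_assoc, add_mul, one_mul, trace_add, ← pow_shift]
    rw [hSR, hTR, ← map_mul, ← map_mul, ← map_pow, ← map_pow, ← map_mul, ftr, ftr, htr i (by omega),
      htr2 i (by omega)]
    simp
  have htrace : ∀ Ψ : ℝ[X], (aeval ZR ((X - C ((p : ℝ) * q + 1)) * Ψ)).trace * ((q : ℝ) + 1) =
      τ ((X - C ((p : ℝ) * q + 1)) * Ψ) := fun Ψ => by
    rw [hτ, ← hR.aeval_compl hq1, trace_smul, smul_eq_mul, mul_comm]
  have hkill : ∀ Ψ : ℝ[X], aeval ZR ((X - C ((p : ℝ) * q + 1)) * Ψ) * G SR TR 0 = 0 →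
      ∀ x ∈ ZR.charpoly.roots, ((X - C ((p : ℝ) * q + 1)) * Ψ).eval x = 0 := fun Ψ hΨ x hx => by
    refine eval_eq_zero_of_aeval hherm ?_ hx
    have := hR.aeval_compl hq1 Ψ
    rw [hΨ] at this
    exact (smul_eq_zero.1 this).resolve_left hq1
  simp only [Set.mem_insert_iff, Set.mem_singleton_iff, not_or] at hm'
  rcases Nat.even_or_odd m with ⟨n, hn⟩ | hodd
  · -- even case
    obtain ⟨k, rfl⟩ : ∃ k, n = k + 2 := ⟨n - 2, by omega⟩
    set r := Real.sqrt ((p : ℝ) * q) with hr
    have hr0 : 0 < r := Real.sqrt_pos.2 (by nlinarith)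
    have hr2 : r ^ 2 = (p : ℝ) * q := Real.sq_sqrt (by nlinarith)
    have hb : (TR * SR) ^ (k + 2) = (SR * TR) ^ (k + 2) := by
      rw [hSR, hTR, ← map_mul, ← map_mul, ← map_pow, ← map_pow, hbe (k + 2) (by omega)]
    have hphi : ∀ j, 1 ≤ j → j ≤ k + 2 → τ (phi (p : ℝ) q j) = 0 := fun j h1 h2 => hGtr j h1 (by omega)
    have hΦ : ∀ x ∈ ZR.charpoly.roots,
        (x = (p : ℝ) * q + 1 ∨ x = -((p : ℝ) + q)) ∨ (V (r ^ 2) (k + 2)).eval x = 0 := by
      intro x hx
      have h1 := hR.phi_ann_even hq1 hb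
      rw [ann_even, mul_assoc] at h1
      have h2 := hkill _ h1 x hx
      simp only [eval_mul, eval_sub, eval_X, eval_C, mul_eq_zero, sub_eq_zero] at h2
      rw [hr2]
      tauto
    refine no_even (h := k + 2) (by omega) hp hq hf0 hspl
      (y := fun j : ℕ => 2 * r * Real.cos (Real.pi * j / (k + 2 : ℕ))) (fun j => rfl) ?_ hN0 ?_
    · intro x hx
      rcases hΦ x (hmemroot x hx) with h1 | h1
      · exact Or.inl h1
      · exact Or.inr (even_roots hr0 (by omega) h1)
    · intro j hj hj'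
      obtain ⟨hV, hD, hrel⟩ := even_root hr0 hj hj'
      set y := 2 * r * Real.cos (Real.pi * j / (k + 2 : ℕ)) with hy
      have hg : ∀ x ∈ ZR.charpoly.roots, x ≠ y →
          ((X - C ((p : ℝ) * q + 1)) * ((X - C (-((p : ℝ) + q))) * quot (r ^ 2) (k + 2) y)).eval x = 0 := by
        intro x hx hne
        simp only [eval_mul, eval_sub, eval_X, eval_C, mul_eq_zero, sub_eq_zero]
        rcases hΦ x hx with (h1 | h1) | h1
        · exact Or.inl h1
        · exact Or.inr (Or.inl h1)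
        · have h2 := congrArg (Polynomial.eval x) (quot_spec (r ^ 2) y (k + 2))
          simp only [eval_mul, eval_sub, eval_X, eval_C, h1, hV, sub_zero, mul_eq_zero, sub_eq_zero] at h2
          exact Or.inr (Or.inr (h2.resolve_left hne))
      have e1 := trace_eq_count hherm _ y hg
      have e2 := htrace ((X - C (-((p : ℝ) + q))) * quot (r ^ 2) (k + 2) y)
      rw [e1, ← mul_assoc (X - C ((p : ℝ) * q + 1))] at e2
      simp only [eval_mul, eval_sub, eval_X, eval_C, quot_eval] at e2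
      rw [hr2] at e2 hrel hD
      rw [tau_quot_even (by linarith) τ hτ1 hphi (by omega)] at e2
      rw [hchar]
      refine mul_right_cancel₀ (mul_ne_zero hD hq1) ?_
      linear_combination (-(2 * ((k + 2 : ℕ) : ℝ))) * e2 + (N * ((q : ℝ) + 1)) * hrel
  · -- odd case
    obtain ⟨n, hn⟩ := hodd
    obtain ⟨k, rfl⟩ : ∃ k, n = k + 2 := ⟨n - 2, by omega⟩
    obtain rfl := hpq ⟨k + 2, hn⟩
    have hb : (TR * SR) ^ (k + 2) * TR = (SR * TR) ^ (k + 2) * SR := by
      rw [hSR, hTR, ← map_mul, ← map_mul, ← map_pow, ← map_pow, ← map_mul, ← map_mul, hbo (k + 2) hn]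
    have hr2 : (p : ℝ) ^ 2 = (p : ℝ) * p := sq _
    have hphi : ∀ j, 1 ≤ j → j ≤ k + 2 → τ (phi (p : ℝ) p j) = 0 := fun j h1 h2 => hGtr j h1 (by omega)
    have hΦ : ∀ x ∈ ZR.charpoly.roots,
        x = (p : ℝ) * p + 1 ∨ (V ((p : ℝ) ^ 2) (k + 2 + 1) + C (p : ℝ) * V ((p : ℝ) ^ 2) (k + 2)).eval x = 0 := by
      intro x hx
      have h1 := hR.phi_ann_odd hq1 hb
      rw [ann_odd] at h1
      have h2 := hkill _ h1 x hx
      rw [hr2]
      simp only [eval_mul, eval_sub, eval_X, eval_C, mul_eq_zero, sub_eq_zero] at h2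
      exact h2
    refine no_odd (h := k + 2) (by omega) hp hf0 hspl
      (y := fun j : ℕ => 2 * (p : ℝ) * Real.cos (2 * Real.pi * j / (2 * ((k + 2 : ℕ) : ℝ) + 1)))
      (fun j => rfl) ?_ hN0 ?_
    · intro x hx
      rcases hΦ x (hmemroot x hx) with h1 | h1
      · exact Or.inl h1
      · exact Or.inr (odd_roots (by linarith) (by omega) h1)
    · intro j hj hj'
      obtain ⟨hV, hD, hrel⟩ := odd_root (q := (p : ℝ)) (by linarith) hj hj'
      set y := 2 * (p : ℝ) * Real.cos (2 * Real.pi * j / (2 * ((k + 2 : ℕ) : ℝ) + 1)) with hy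
      set Q := quot ((p : ℝ) ^ 2) (k + 2 + 1) y + C (p : ℝ) * quot ((p : ℝ) ^ 2) (k + 2) y with hQ
      have hQy : Q.eval y = (derivative (V ((p : ℝ) ^ 2) (k + 2 + 1) + C (p : ℝ) * V ((p : ℝ) ^ 2) (k + 2))).eval y := by
        rw [hQ, derivative_add, derivative_C_mul]
        simp only [eval_add, eval_mul, eval_C, quot_eval]
      have hg : ∀ x ∈ ZR.charpoly.roots, x ≠ y → ((X - C ((p : ℝ) * p + 1)) * Q).eval x = 0 := by
        intro x hx hne
        simp only [eval_mul, eval_sub, eval_X, eval_C, mul_eq_zero, sub_eq_zero]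
        rcases hΦ x hx with h1 | h1
        · exact Or.inl h1
        · have h2 := congrArg (Polynomial.eval x) (quot_spec ((p : ℝ) ^ 2) y (k + 2 + 1))
          have h3 := congrArg (Polynomial.eval x) (quot_spec ((p : ℝ) ^ 2) y (k + 2))
          simp only [eval_mul, eval_sub, eval_add, eval_X, eval_C] at h2 h3 h1 hV
          have h4 : (x - y) * Q.eval x = 0 := by
            rw [hQ]
            simp only [eval_add, eval_mul, eval_C]
            linear_combination h2 + (p : ℝ) * h3 + h1 - hV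
          exact Or.inr ((mul_eq_zero.1 h4).resolve_left (sub_ne_zero.2 hne))
      have e1 := trace_eq_count hherm _ y hg
      have e2 := htrace Q
      rw [e1] at e2
      simp only [eval_mul, eval_sub, eval_X, eval_C, hQy] at e2
      simp only [hQ, hr2] at e2 hrel hD
      rw [tau_quot_odd (by linarith) τ hτ1 hphi y] at e2
      rw [hchar]
      refine mul_right_cancel₀ (mul_ne_zero hD hq1) ?_
      linear_combination (-(2 * ((k + 2 : ℕ) : ℝ) + 1)) * e2 + (N * ((p : ℝ) + 1)) * hrel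

end CfsgLib.Lie.FeitHigman
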