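import Cfsg.Agent.Lib.Lie.BN
import Cfsg.Agent.Lib.Lie.Exchange
import Cfsg.Agent.Lib.Lie.FeitHigman.Spectral

/-!
# The Hecke matrices of a finite group with a BN-pair of rank two, and the theorem of Feit and Higman
-/

set_option autoImplicit false
set_option linter.style.haveILetI false
set_option linter.unusedSectionVars false

namespace CfsgLib.Lie.FeitHigman

open CfsgLib.Lie.BN
open CfsgLib.Lie.Exchange (alt)

variable {G : Type*} [Group G] [Finite G] (P : Cfsg.BNPair G)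

theorem mul_cell {s n : G} (hs : s ∈ P.S) (hn : n ∈ P.N) (h : len P n ≤ len P (s * n)) {x y : G}
    (hx : x ∈ cell P s) (hy : y ∈ cell P n) : x * y ∈ cell P (s * n) := by
  obtain ⟨b, hb, c, hc, rfl⟩ := (mem_cell P).1 hx
  obtain ⟨b1, hb1, c1, hc1, rfl⟩ := (mem_cell P).1 hy
  rw [show b * s * c * (b1 * n * c1) = b * (s * (c * b1) * n * c1) by group]
  exact cell_mul_left P hb (cell_mul_right P hc1 (left_mem_cell P hs hn h (P.B.mul_mem hc hb1)))

theorem cell_inv_self {s : G} (hs : s ∈ P.S) {x : G} (h : x ∈ cell P s) : x⁻¹ ∈ cell P s := by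
  have h1 := cell_inv P h
  rwa [cell_congr P (n := s⁻¹) (m := s) (by simpa using P.sq_mem s hs)] at h1

theorem mul_cell_self {s : G} (hs : s ∈ P.S) {x y : G} (hx : x ∈ cell P s) (hy : y ∈ cell P s) :
    x * y ∈ P.B ∨ x * y ∈ cell P s := by
  obtain ⟨b, hb, c, hc, rfl⟩ := (mem_cell P).1 hx
  rw [show b * s * c * y = b * (s * (c * y)) by group]
  rcases left_rule_cell P hs (S_mem P hs) (cell_mul_left P hc hy) with h | h
  · exact Or.inl (P.B.mul_mem hb ((cell_of_mem_B P (P.sq_mem s hs)).1 h))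
  · exact Or.inr (cell_mul_left P hb h)

open scoped Classical in
/-- the Hecke matrix of a double coset -/
noncomputable def M (n : G) : Matrix (G ⧸ P.B) (G ⧸ P.B) ℚ :=
  Matrix.of fun i j => if i.out⁻¹ * j.out ∈ cell P n then 1 else 0

open scoped Classical in
/-- the number of cosets in `B s B` -/
noncomputable def par (s : G) : ℕ :=
  haveI := Fintype.ofFinite (G ⧸ P.B)
  (Finset.univ.filter fun k : G ⧸ P.B => k.out ∈ cell P s).card

theorem out_eq_iff (i j : G ⧸ P.B) : i.out⁻¹ * j.out ∈ P.B ↔ i = j := by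
  rw [← QuotientGroup.eq, QuotientGroup.out_eq', QuotientGroup.out_eq']

theorem M_one [DecidableEq (G ⧸ P.B)] : M P 1 = 1 := by
  ext i j
  simp only [M, Matrix.of_apply, cell_one, out_eq_iff, Matrix.one_apply]

theorem M_congr {n n' : G} (h : Eqv P n n') : M P n = M P n' := by
  classical
  ext i j
  simp only [M, Matrix.of_apply]
  exact if_congr (by rw [h.cell_eq]) rfl rfl

theorem M_transpose {s : G} (hs : s ∈ P.S) : (M P s).transpose = M P s := by
  classical
  ext i j
  simp only [M, Matrix.transpose_apply, Matrix.of_apply]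
  have h : j.out⁻¹ * i.out ∈ cell P s ↔ i.out⁻¹ * j.out ∈ cell P s :=
    ⟨fun h => by simpa using cell_inv_self P hs h, fun h => by simpa using cell_inv_self P hs h⟩
  exact if_congr h rfl rfl

variable [Fintype (G ⧸ P.B)]

open scoped Classical in
theorem card_row {s : G} (x : G) :
    (Finset.univ.filter fun k : G ⧸ P.B => x⁻¹ * k.out ∈ cell P s).card = par P s := by
  rw [par]
  refine Finset.card_bij (fun k _ => x⁻¹ • k) (fun k hk => ?_) (fun a _ b _ e => smul_left_cancel _ e)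
    (fun k hk => ⟨x • k, ?_, inv_smul_smul x k⟩)
  · simp only [Finset.mem_filter, Finset.mem_univ, true_and] at hk ⊢
    obtain ⟨β, hβ⟩ := QuotientGroup.mk_out_eq_mul P.B (x⁻¹ * k.out)
    rw [show x⁻¹ • k = ((x⁻¹ * k.out : G) : G ⧸ P.B) by
      conv_lhs => rw [← QuotientGroup.out_eq' k]
      rfl, hβ]
    exact cell_mul_right P β.2 hk
  · simp only [Finset.mem_filter, Finset.mem_univ, true_and] at hk ⊢
    obtain ⟨β, hβ⟩ := QuotientGroup.mk_out_eq_mul P.B (x * k.out)
    rw [show x • k = ((x * k.out : G) : G ⧸ P.B) by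
      conv_lhs => rw [← QuotientGroup.out_eq' k]
      rfl, hβ, show x⁻¹ * (x * k.out * β) = k.out * β by group]
    exact cell_mul_right P β.2 hk

open scoped Classical in
theorem M_mul_apply (n n' : G) (i j : G ⧸ P.B) :
    (M P n * M P n') i j = ((Finset.univ.filter fun k : G ⧸ P.B =>
      i.out⁻¹ * k.out ∈ cell P n ∧ k.out⁻¹ * j.out ∈ cell P n').card : ℚ) := by
  rw [Matrix.mul_apply, Finset.card_filter, Nat.cast_sum]
  refine Finset.sum_congr rfl fun k _ => ?_
  simp only [M, Matrix.of_apply]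
  by_cases h1 : i.out⁻¹ * k.out ∈ cell P n <;> by_cases h2 : k.out⁻¹ * j.out ∈ cell P n' <;> simp [h1, h2]

theorem M_mul {s n : G} (hs : s ∈ P.S) (hn : n ∈ P.N) (h : len P (s * n) = len P n + 1) :
    M P s * M P n = M P (s * n) := by
  classical
  ext i j
  rw [M_mul_apply, M, Matrix.of_apply]
  split_ifs with hc
  · obtain ⟨b, hb, c, hc', e⟩ := (mem_cell P).1 hc
    obtain ⟨β, hβ⟩ := QuotientGroup.mk_out_eq_mul P.B (i.out * b * s)
    rw [Nat.cast_eq_one, Finset.card_eq_one]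
    refine ⟨((i.out * b * s : G) : G ⧸ P.B), Finset.eq_singleton_iff_unique_mem.2 ⟨?_, fun k hk => ?_⟩⟩
    · simp only [Finset.mem_filter, Finset.mem_univ, true_and]
      rw [hβ]
      refine ⟨(mem_cell P).2 ⟨b, hb, β, β.2, by group⟩, (mem_cell P).2 ⟨(β : G)⁻¹, P.B.inv_mem β.2, c, hc', ?_⟩⟩
      calc (i.out * b * s * β)⁻¹ * j.out = (β : G)⁻¹ * s⁻¹ * b⁻¹ * (i.out⁻¹ * j.out) := by group
        _ = (β : G)⁻¹ * s⁻¹ * b⁻¹ * (b * (s * n) * c) := by rw [e]
        _ = (β : G)⁻¹ * n * c := by group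
    · simp only [Finset.mem_filter, Finset.mem_univ, true_and] at hk
      set k0 := ((i.out * b * s : G) : G ⧸ P.B)
      have h0 : i.out⁻¹ * k0.out ∈ cell P s ∧ k0.out⁻¹ * j.out ∈ cell P n := by
        rw [hβ]
        refine ⟨(mem_cell P).2 ⟨b, hb, β, β.2, by group⟩, (mem_cell P).2 ⟨(β : G)⁻¹, P.B.inv_mem β.2, c, hc', ?_⟩⟩
        calc (i.out * b * s * β)⁻¹ * j.out = (β : G)⁻¹ * s⁻¹ * b⁻¹ * (i.out⁻¹ * j.out) := by group
          _ = (β : G)⁻¹ * s⁻¹ * b⁻¹ * (b * (s * n) * c) := by rw [e]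
          _ = (β : G)⁻¹ * n * c := by group
      have hz : k.out⁻¹ * k0.out ∈ P.B ∨ k.out⁻¹ * k0.out ∈ cell P s := by
        have := mul_cell_self P hs (cell_inv_self P hs hk.1) h0.1
        rwa [show (i.out⁻¹ * k.out)⁻¹ * (i.out⁻¹ * k0.out) = k.out⁻¹ * k0.out by group] at this
      rcases hz with hz | hz
      · exact (out_eq_iff P k k0).1 hz
      · exfalso
        have h1 := mul_cell P hs hn (by omega) hz h0.2
        rw [show k.out⁻¹ * k0.out * (k0.out⁻¹ * j.out) = k.out⁻¹ * j.out by group] at h1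
        have h2 := len_congr P (P.N.mul_mem (S_mem P hs) hn) hn
          (eqv_of_mem_cell P (P.N.mul_mem (S_mem P hs) hn) hn h1 hk.2)
        omega
  · rw [Nat.cast_eq_zero, Finset.card_eq_zero, Finset.filter_eq_empty_iff]
    rintro k - ⟨h1, h2⟩
    refine hc ?_
    have := mul_cell P hs hn (by omega) h1 h2
    rwa [show i.out⁻¹ * k.out * (k.out⁻¹ * j.out) = i.out⁻¹ * j.out by group] at this

theorem M_sq [DecidableEq (G ⧸ P.B)] {s : G} (hs : s ∈ P.S) :
    M P s * M P s = ((par P s : ℚ) - 1) • M P s + (par P s : ℚ) • (1 : Matrix (G ⧸ P.B) (G ⧸ P.B) ℚ) := by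
  classical
  ext i j
  rw [M_mul_apply, Matrix.add_apply, Matrix.smul_apply, Matrix.smul_apply, Matrix.one_apply]
  by_cases hij : i = j
  · subst hij
    have h1 : i.out⁻¹ * i.out ∉ cell P s := by
      rw [inv_mul_cancel]
      intro h
      refine not_mem_B P hs ((cell_one P).1 ?_)
      rw [cell_eq_of_mem P h]; exact mem_cell_self P s
    rw [M, Matrix.of_apply, if_neg h1, if_pos rfl, smul_zero, zero_add, smul_eq_mul, mul_one,
      ← card_row P (s := s) i.out]
    congr 2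
    refine Finset.filter_congr fun k _ => ⟨fun h => h.1, fun h => ⟨h, ?_⟩⟩
    simpa using cell_inv_self P hs h
  rw [if_neg hij, smul_zero, add_zero, M, Matrix.of_apply]
  by_cases hc : i.out⁻¹ * j.out ∈ cell P s
  · rw [if_pos hc, smul_eq_mul, mul_one]
    have hset : (Finset.univ.filter fun k : G ⧸ P.B => i.out⁻¹ * k.out ∈ cell P s ∧ k.out⁻¹ * j.out ∈ cell P s) =
        (Finset.univ.filter fun k : G ⧸ P.B => i.out⁻¹ * k.out ∈ cell P s).erase j := by
      ext k
      simp only [Finset.mem_filter, Finset.mem_univ, true_and, Finset.mem_erase]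
      refine ⟨fun h => ⟨fun e => ?_, h.1⟩, fun h => ⟨h.2, ?_⟩⟩
      · have h2 := h.2
        rw [e, inv_mul_cancel] at h2
        refine not_mem_B P hs ((cell_one P).1 ?_)
        rw [cell_eq_of_mem P h2]; exact mem_cell_self P s
      · have := mul_cell_self P hs (cell_inv_self P hs h.2) hc
        rw [show (i.out⁻¹ * k.out)⁻¹ * (i.out⁻¹ * j.out) = k.out⁻¹ * j.out by group] at this
        exact this.resolve_left fun hb => h.1 ((out_eq_iff P k j).1 hb)
    have hpos : j ∈ Finset.univ.filter fun k : G ⧸ P.B => i.out⁻¹ * k.out ∈ cell P s := by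
      simpa using hc
    rw [hset, Finset.card_erase_of_mem hpos, card_row, Nat.cast_sub, Nat.cast_one]
    rw [← card_row P (s := s) i.out]
    exact Finset.card_pos.2 ⟨j, hpos⟩
  · rw [if_neg hc, smul_zero, Nat.cast_eq_zero, Finset.card_eq_zero, Finset.filter_eq_empty_iff]
    rintro k - ⟨h1, h2⟩
    have := mul_cell_self P hs h1 h2
    rw [show i.out⁻¹ * k.out * (k.out⁻¹ * j.out) = i.out⁻¹ * j.out by group] at this
    exact this.elim (fun hb => hij ((out_eq_iff P i j).1 hb)) hc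

theorem two_le_par {s : G} (hs : s ∈ P.S) : 2 ≤ par P s := by
  classical
  obtain ⟨b, hb, hbs⟩ := thick P hs
  rw [← card_row P (s := s) 1]
  refine Finset.one_lt_card.2 ⟨((b * s : G) : G ⧸ P.B), ?_, ((s : G) : G ⧸ P.B), ?_, fun e => ?_⟩
  · obtain ⟨β, hβ⟩ := QuotientGroup.mk_out_eq_mul P.B (b * s)
    simp only [Finset.mem_filter, Finset.mem_univ, true_and, inv_one, one_mul, hβ]
    exact (mem_cell P).2 ⟨b, hb, β, β.2, rfl⟩
  · obtain ⟨β, hβ⟩ := QuotientGroup.mk_out_eq_mul P.B s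
    simp only [Finset.mem_filter, Finset.mem_univ, true_and, inv_one, one_mul, hβ]
    exact (mem_cell P).2 ⟨1, P.B.one_mem, β, β.2, by rw [one_mul]⟩
  · have h1 : (b * s)⁻¹ * s ∈ P.B := QuotientGroup.eq.1 e
    have h2 : s * b * s = s * s * (((b * s)⁻¹ * s)⁻¹) := by group
    refine not_mem_B P hs ((cell_one P).1 ?_)
    have h3 : s * b * s ∈ cell P 1 := by
      rw [h2, cell_one]; exact P.B.mul_mem (P.sq_mem s hs) (P.B.inv_mem h1)
    rw [← cell_eq_of_mem P h3, cell_eq_of_mem P hbs]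
    exact mem_cell_self P s

theorem M_trace {n : G} (hn : n ∉ P.B) : (M P n).trace = 0 := by
  classical
  refine Finset.sum_eq_zero fun i _ => ?_
  simp only [Matrix.diag, M, Matrix.of_apply, inv_mul_cancel, ite_eq_right_iff, one_ne_zero, imp_false]
  intro h
  refine hn ((cell_one P).1 ?_)
  rw [cell_eq_of_mem P h]; exact mem_cell_self P n

theorem M_row {s : G} : (M P s).mulVec (fun _ => (1 : ℚ)) = fun _ => (par P s : ℚ) := by
  classical
  funext i
  simp only [Matrix.mulVec, dotProduct, M, Matrix.of_apply, mul_one]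
  rw [← card_row P (s := s) i.out, Finset.card_filter, Nat.cast_sum]
  exact Finset.sum_congr rfl fun k _ => by split_ifs <;> simp

theorem alt_pow {R : Type*} [Monoid R] (x y : R) :
    ∀ j, (alt x y (2 * j)).prod = (x * y) ^ j ∧ (alt x y (2 * j + 1)).prod = (x * y) ^ j * x
  | 0 => by simp [alt]
  | j + 1 => by
    obtain ⟨h1, h2⟩ := alt_pow x y j
    have e1 : (alt x y (2 * (j + 1))).prod = (x * y) ^ (j + 1) := by
      show (alt x y (2 * j + 2)).prod = _
      simp only [alt, List.prod_cons, h1, ← mul_assoc, pow_succ']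
    refine ⟨e1, ?_⟩
    show (alt x y (2 * j + 3)).prod = _
    simp only [alt, List.prod_cons, ← mul_assoc] at h2 ⊢
    rw [mul_assoc (x * y) x, h2, ← mul_assoc, ← pow_succ']

/-- The theorem of Feit and Higman. -/
theorem feit_higman (h2 : P.rank = 2) :
    ((P.B ⊓ P.N).subgroupOf P.N).index ∈ ({4, 6, 8, 12, 16} : Set ℕ) := by
  classical
  obtain ⟨s, t, hst, hS⟩ : ∃ s t : G, s ≠ t ∧ P.S = {s, t} := by
    rw [Cfsg.BNPair.rank, Nat.card_coe_set_eq] at h2
    exact Set.ncard_eq_two.1 h2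
  have hs : s ∈ P.S := by simp [hS]
  have ht : t ∈ P.S := by simp [hS]
  haveI hT0 : ((P.B ⊓ P.N).subgroupOf P.N).Normal := ⟨fun x hx g => by
    rw [Subgroup.mem_subgroupOf] at hx ⊢
    exact ⟨P.conj_mem g g.2 x hx, P.N.mul_mem (P.N.mul_mem g.2 x.2) (P.N.inv_mem g.2)⟩⟩
  let π : ↥P.N →* ↥P.N ⧸ (P.B ⊓ P.N).subgroupOf P.N := QuotientGroup.mk' _
  have hπ : ∀ (x y : ↥P.N), π x = π y ↔ Eqv P (x : G) y := fun x y => by
    rw [QuotientGroup.mk'_apply, QuotientGroup.mk'_apply, QuotientGroup.eq, Subgroup.mem_subgroupOf]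
    exact ⟨fun h => h.1, fun h => ⟨h, P.N.mul_mem (P.N.inv_mem x.2) y.2⟩⟩
  set σ := π ⟨s, S_mem P hs⟩ with hσdef
  set ρ := π ⟨t, S_mem P ht⟩ with hρdef
  have hσ : σ * σ = 1 := by
    rw [hσdef, ← map_mul, ← map_one π, hπ]
    simpa [Eqv] using P.B.inv_mem (P.sq_mem s hs)
  have hρ : ρ * ρ = 1 := by
    rw [hρdef, ← map_mul, ← map_one π, hπ]
    simpa [Eqv] using P.B.inv_mem (P.sq_mem t ht)
  have hσ1 : σ ≠ 1 := fun e => not_mem_B P hs (by
    rw [hσdef, ← map_one π, hπ] at e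
    simpa [Eqv] using e)
  have hρ1 : ρ ≠ 1 := fun e => not_mem_B P ht (by
    rw [hρdef, ← map_one π, hπ] at e
    simpa [Eqv] using e)
  set a := σ * ρ with hadef
  set m := orderOf a with hmdef
  have hm0 : 0 < m := orderOf_pos a
  have hm2 : 2 ≤ m := by
    by_contra hlt
    have h1 : a = 1 := orderOf_eq_one_iff.1 (show m = 1 by omega)
    have h3 : σ = ρ := by
      calc σ = σ * (ρ * ρ) := by rw [hρ, mul_one]
        _ = ρ := by rw [← mul_assoc, ← hadef, h1, one_mul]
    rw [hσdef, hρdef, hπ] at h3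
    exact hst (P.inj s hs t ht h3)
  have hσinv : σ⁻¹ = σ := inv_eq_of_mul_eq_one_right hσ
  have hflip : ∀ z : ℤ, σ * a ^ z = a ^ (-z) * σ := fun z => by
    have h1 : σ * a * σ⁻¹ = a⁻¹ := by
      rw [hadef, mul_inv_rev, hσinv, inv_eq_of_mul_eq_one_right hρ, ← mul_assoc, hσ, one_mul]
    have h2 : σ * a ^ z * σ⁻¹ = a ^ (-z) := by rw [← conj_zpow, h1, inv_zpow, ← zpow_neg]
    exact mul_inv_eq_iff_eq_mul.1 h2
  have hρa : ρ = a⁻¹ * σ := by
    rw [hadef, mul_inv_rev, hσinv, inv_eq_of_mul_eq_one_right hρ, mul_assoc, hσ, mul_one]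
  let φ : ℤ → ↥P.N ⧸ (P.B ⊓ P.N).subgroupOf P.N :=
    fun d => if Even d then a ^ (d / 2) else a ^ (d / 2) * σ
  have hφe : ∀ z : ℤ, φ (2 * z) = a ^ z := fun z => by
    show (if Even (2 * z) then _ else _) = _
    rw [if_pos (even_two_mul z), Int.mul_ediv_cancel_left _ two_ne_zero]
  have hφo : ∀ z : ℤ, φ (2 * z + 1) = a ^ z * σ := fun z => by
    show (if Even (2 * z + 1) then _ else _) = _
    rw [if_neg (by rw [Int.not_even_iff_odd]; exact odd_two_mul_add_one z), show (2 * z + 1) / 2 = z by omega]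
  have hφσ : ∀ d : ℤ, σ * φ d = φ (1 - d) := fun d => by
    rcases Int.even_or_odd' d with ⟨z, rfl | rfl⟩
    · rw [hφe, show 1 - 2 * z = 2 * (-z) + 1 by ring, hφo, hflip]
    · rw [hφo, show 1 - (2 * z + 1) = 2 * (-z) by ring, hφe, ← mul_assoc, hflip, mul_assoc, hσ, mul_one]
  have hφρ : ∀ d : ℤ, ρ * φ d = φ (-1 - d) := fun d => by
    rw [hρa, mul_assoc, hφσ]
    rcases Int.even_or_odd' d with ⟨z, rfl | rfl⟩
    · rw [show 1 - 2 * z = 2 * (-z) + 1 by ring, hφo, show -1 - 2 * z = 2 * (-1 - z) + 1 by ring, hφo,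
        ← mul_assoc, show -1 - z = -1 + -z by ring, zpow_add, zpow_neg_one]
    · rw [show 1 - (2 * z + 1) = 2 * (-z) by ring, hφe, show -1 - (2 * z + 1) = 2 * (-1 - z) by ring, hφe,
        show -1 - z = -1 + -z by ring, zpow_add, zpow_neg_one]
  have hσmem : ∀ z : ℤ, a ^ z ≠ σ := fun z e => by
    have h1 : a ^ z * a = a * a ^ z := ((Commute.refl a).zpow_left z).eq
    rw [e] at h1
    have h2 : a * a = 1 := by
      have h3 := hflip 1
      rw [zpow_one, h1, zpow_neg_one] at h3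
      exact mul_eq_one_iff_eq_inv.2 (mul_right_cancel h3)
    rcases Int.even_or_odd' z with ⟨w, rfl | rfl⟩
    · rw [zpow_mul, zpow_two, h2, one_zpow] at e; exact hσ1 e.symm
    · rw [zpow_add, zpow_mul, zpow_two, h2, one_zpow, one_mul, zpow_one, hadef] at e
      exact hρ1 (mul_eq_left.1 e)
  have hφeq : ∀ d d' : ℤ, φ d = φ d' ↔ (2 * (m : ℤ)) ∣ d - d' := fun d d' => by
    have hz : ∀ z z' : ℤ, a ^ z = a ^ z' ↔ (m : ℤ) ∣ z - z' := fun z z' => by
      rw [zpow_eq_zpow_iff_modEq, Int.modEq_comm, Int.modEq_iff_dvd]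
    rcases Int.even_or_odd' d with ⟨z, rfl | rfl⟩ <;> rcases Int.even_or_odd' d' with ⟨z', rfl | rfl⟩
    · rw [hφe, hφe, hz, ← mul_sub, Int.mul_dvd_mul_iff_left two_ne_zero]
    · rw [hφe, hφo]
      refine ⟨fun e => absurd ?_ (hσmem (-z' + z)), fun e => absurd ((dvd_mul_right 2 (m : ℤ)).trans e) (by omega)⟩
      rw [zpow_add, e, zpow_neg, inv_mul_cancel_left]
    · rw [hφo, hφe]
      refine ⟨fun e => absurd ?_ (hσmem (-z + z')), fun e => absurd ((dvd_mul_right 2 (m : ℤ)).trans e) (by omega)⟩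
      rw [zpow_add, ← e, zpow_neg, inv_mul_cancel_left]
    · rw [hφo, hφo, mul_right_cancel_iff, hz, show 2 * z + 1 - (2 * z' + 1) = 2 * (z - z') by ring,
        Int.mul_dvd_mul_iff_left two_ne_zero]
  -- images of words
  have hword : ∀ l : List G, IsWord P l → ∀ hN : l.prod ∈ P.N,
      ∃ d : ℤ, d.natAbs ≤ l.length ∧ π ⟨l.prod, hN⟩ = φ d := by
    intro l
    induction l with
    | nil => exact fun _ _ => ⟨0, by simp, by rw [show (0 : ℤ) = 2 * 0 by ring, hφe, zpow_zero]; exact map_one π⟩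
    | cons x l ih =>
      intro hw hN
      have hw' : IsWord P l := fun y hy => hw y (List.mem_cons_of_mem _ hy)
      have hx : x ∈ P.S := hw x List.mem_cons_self
      obtain ⟨d, hd, he⟩ := ih hw' (IsWord.mem_N P hw')
      have hsplit : π ⟨(x :: l).prod, hN⟩ = π ⟨x, S_mem P hx⟩ * π ⟨l.prod, IsWord.mem_N P hw'⟩ := by
        rw [← map_mul]; exact congrArg π (Subtype.ext List.prod_cons)
      rw [hsplit, he]
      rw [hS, Set.mem_insert_iff, Set.mem_singleton_iff] at hx
      rcases hx with rfl | rfl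
      · exact ⟨1 - d, by simp only [List.length_cons]; omega, hφσ d⟩
      · exact ⟨-1 - d, by simp only [List.length_cons]; omega, hφρ d⟩
  have haltw : ∀ k, IsWord P (alt s t k) ∧ IsWord P (alt t s k) := by
    intro k
    induction k with
    | zero => simp [alt, IsWord]
    | succ k ih =>
      constructor <;> intro y hy <;> simp only [alt, List.mem_cons] at hy <;> rcases hy with rfl | hy
      · exact hs
      · exact ih.2 y hy
      · exact ht
      · exact ih.1 y hy
  have haltN : ∀ k, (alt s t k).prod ∈ P.N ∧ (alt t s k).prod ∈ P.N := fun k =>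
    ⟨IsWord.mem_N P (haltw k).1, IsWord.mem_N P (haltw k).2⟩
  have haltφ : ∀ k : ℕ, π ⟨_, (haltN k).1⟩ = φ k ∧ π ⟨_, (haltN k).2⟩ = φ (-k) := by
    intro k
    induction k with
    | zero =>
      have h0 : φ 0 = 1 := by rw [show (0 : ℤ) = 2 * 0 by ring, hφe, zpow_zero]
      simp only [Nat.cast_zero, neg_zero, h0]
      exact ⟨map_one π, map_one π⟩
    | succ k ih =>
      constructor
      · have e : π ⟨_, (haltN (k + 1)).1⟩ = σ * π ⟨_, (haltN k).2⟩ := by
          rw [hσdef, ← map_mul]; exact congrArg π (Subtype.ext (by simp [alt]))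
        rw [e, ih.2, hφσ]; push_cast; ring_nf
      · have e : π ⟨_, (haltN (k + 1)).2⟩ = ρ * π ⟨_, (haltN k).1⟩ := by
          rw [hρdef, ← map_mul]; exact congrArg π (Subtype.ext (by simp [alt]))
        rw [e, ih.1, hφρ]; push_cast; ring_nf
  have hlen : ∀ k ≤ m, len P (alt s t k).prod = k ∧ len P (alt t s k).prod = k := by
    intro k hk
    have key : ∀ (w : G) (hw : w ∈ P.N) (e : ℤ), e.natAbs = k → π ⟨w, hw⟩ = φ e → k ≤ len P w := by
      intro w hw e he hwe
      obtain ⟨l, hl, hlk, hle⟩ := len_spec P hw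
      obtain ⟨d, hd, hld⟩ := hword l hl (IsWord.mem_N P hl)
      have h3 : φ e = φ d := by rw [← hwe, ← hld, hπ]; exact hle
      by_contra hlt
      have hdvd := (hφeq e d).1 h3
      have h4 := Nat.le_of_dvd (by omega) (Int.natAbs_dvd_natAbs.2 hdvd)
      omega
    have l1 := len_le P (n := (alt s t k).prod) (haltw k).1 (Eqv.refl P _)
    have l2 := len_le P (n := (alt t s k).prod) (haltw k).2 (Eqv.refl P _)
    have k1 := key _ (haltN k).1 k (by omega) (haltφ k).1
    have k2 := key _ (haltN k).2 (-k) (by omega) (haltφ k).2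
    rw [CfsgLib.Lie.Exchange.alt_length] at l1 l2
    omega
  -- the index
  have hcard : ((P.B ⊓ P.N).subgroupOf P.N).index = 2 * m := by
    haveI : NeZero (2 * m) := ⟨by omega⟩
    let ψ : Fin (2 * m) → ↥P.N ⧸ (P.B ⊓ P.N).subgroupOf P.N := fun i => φ (i.val : ℤ)
    have hbij : Function.Bijective ψ := by
      refine ⟨fun i j e => ?_, fun x => ?_⟩
      · have h3 := (hφeq _ _).1 e
        refine Fin.ext ?_
        have := i.isLt
        have := j.isLt
        have h4 : ((i.val : ℤ) - j.val) % (2 * (m : ℤ)) = 0 := Int.emod_eq_zero_of_dvd h3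
        by_contra hne
        have h5 := Nat.le_of_dvd (by omega) (Int.natAbs_dvd_natAbs.2 h3)
        omega
      · obtain ⟨y, rfl⟩ := QuotientGroup.mk'_surjective _ x
        obtain ⟨l, hl, he⟩ := exists_word P y.2
        obtain ⟨d, -, hd⟩ := hword l hl (IsWord.mem_N P hl)
        refine ⟨⟨(d % (2 * (m : ℤ))).toNat, ?_⟩, ?_⟩
        · have := Int.emod_lt_of_pos d (show (0 : ℤ) < 2 * m by omega)
          omega
        · show φ ((d % (2 * (m : ℤ))).toNat : ℤ) = π y
          rw [Int.toNat_of_nonneg (Int.emod_nonneg d (by omega)), (hπ y ⟨_, IsWord.mem_N P hl⟩).2 he, hd, hφeq]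
          exact ⟨-(d / (2 * (m : ℤ))), by rw [Int.emod_def]; ring⟩
    rw [Subgroup.index, ← Nat.card_eq_of_bijective ψ hbij, Nat.card_fin]
  -- matrices
  set A := M P s with hA
  set B' := M P t with hB'
  have hMalt : ∀ k ≤ m, M P (alt s t k).prod = (alt A B' k).prod ∧ M P (alt t s k).prod = (alt B' A k).prod := by
    intro k
    induction k with
    | zero => exact fun _ => ⟨by simp [alt, M_one], by simp [alt, M_one]⟩
    | succ k ih =>
      intro hk
      obtain ⟨i1, i2⟩ := ih (by omega)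
      obtain ⟨a1, a2⟩ := hlen (k + 1) hk
      obtain ⟨b1, b2⟩ := hlen k (by omega)
      simp only [alt, List.prod_cons] at a1 a2 ⊢
      exact ⟨by rw [← i2, hA, M_mul P hs (haltN k).2 (by omega)],
        by rw [← i1, hB', M_mul P ht (haltN k).1 (by omega)]⟩
  have hbraid : (alt A B' m).prod = (alt B' A m).prod := by
    rw [← (hMalt m le_rfl).1, ← (hMalt m le_rfl).2]
    refine M_congr P ((hπ ⟨_, (haltN m).1⟩ ⟨_, (haltN m).2⟩).1 ?_)
    rw [(haltφ m).1, (haltφ m).2, hφeq]
    exact ⟨1, by ring⟩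
  by_contra hcon
  rw [hcard] at hcon
  simp only [Set.mem_insert_iff, Set.mem_singleton_iff, not_or] at hcon
  haveI : Nonempty (G ⧸ P.B) := ⟨((1 : G) : G ⧸ P.B)⟩
  have hnotB : ∀ k, 0 < k → k ≤ m → (alt s t k).prod ∉ P.B ∧ (alt t s k).prod ∉ P.B := by
    intro k hk0 hk
    obtain ⟨a1, a2⟩ := hlen k hk
    exact ⟨fun h => by rw [(len_eq_zero P (haltN k).1).2 h] at a1; omega,
      fun h => by rw [(len_eq_zero P (haltN k).2).2 h] at a2; omega⟩
  refine no_polygon hm2 ?_ (p := (par P t : ℚ)) (q := (par P s : ℚ)) (by exact_mod_cast two_le_par P ht)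
    (by exact_mod_cast two_le_par P hs) ?_ A B' (M_transpose P hs) (M_transpose P ht) ⟨M_sq P hs, M_sq P ht⟩
    ?_ ?_ (M_trace P (not_mem_B P hs)) ?_ ?_
  · simp only [Set.mem_insert_iff, Set.mem_singleton_iff, not_or]; omega
  · rintro ⟨k, hk⟩
    have h3 := hbraid
    rw [hk, (alt_pow A B' k).2, (alt_pow B' A k).2] at h3
    have hrow : ∀ (X Y : Matrix (G ⧸ P.B) (G ⧸ P.B) ℚ) (x y : ℚ),
        X.mulVec (fun _ => (1 : ℚ)) = (fun _ => x) → Y.mulVec (fun _ => (1 : ℚ)) = (fun _ => y) →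
        ∀ n : ℕ, ((X * Y) ^ n * X).mulVec (fun _ => (1 : ℚ)) = fun _ => (x * y) ^ n * x := by
      intro X Y x y hX hY n
      have hconst : ∀ (Z : Matrix (G ⧸ P.B) (G ⧸ P.B) ℚ) (z c : ℚ), Z.mulVec (fun _ => (1 : ℚ)) = (fun _ => z) →
          Z.mulVec (fun _ => c) = fun _ => c * z := fun Z z c hZ => by
        have : (fun _ : G ⧸ P.B => c) = c • fun _ => (1 : ℚ) := by funext i; simp
        rw [this, Matrix.mulVec_smul, hZ]; funext i; simp
      induction n with
      | zero => simpa using hX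
      | succ n ih =>
        rw [pow_succ', mul_assoc, ← Matrix.mulVec_mulVec, ih, ← Matrix.mulVec_mulVec, hconst Y y _ hY,
          hconst X x _ hX]
        funext i; ring
    have h4 := congrArg (fun Z : Matrix (G ⧸ P.B) (G ⧸ P.B) ℚ => Z.mulVec (fun _ => (1 : ℚ))) h3
    simp only [hrow A B' _ _ (M_row P) (M_row P), hrow B' A _ _ (M_row P) (M_row P)] at h4
    have h5 := congrFun h4 ((1 : G) : G ⧸ P.B)
    rw [mul_comm ((par P t : ℚ)) (par P s : ℚ)] at h5
    have hqp : (0 : ℚ) < (par P s : ℚ) * par P t := by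
      have := two_le_par P hs
      have := two_le_par P ht
      positivity
    exact (mul_left_cancel₀ (pow_ne_zero k hqp.ne') h5).symm
  · intro k hk
    have h3 := hbraid
    rw [hk, (alt_pow A B' k).1, (alt_pow B' A k).1] at h3
    exact h3.symm
  · intro k hk
    have h3 := hbraid
    rw [hk, (alt_pow A B' k).2, (alt_pow B' A k).2] at h3
    exact h3.symm
  · intro j hj
    rw [← (alt_pow B' A j).2, ← (hMalt _ hj).2]
    exact M_trace P (hnotB _ (by omega) hj).2
  · intro j hj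
    rw [← (alt_pow A B' (j + 1)).1, ← (hMalt _ (by omega)).1]
    exact M_trace P (hnotB _ (by omega) (by omega)).1

end CfsgLib.Lie.FeitHigman
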