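import Mathlib

/-!
# The number theoretic part of the theorem of Feit and Higman

Multiplicities of roots of a rational polynomial are invariant under conjugation; with the
multiplicity formulas of generalised polygons this bounds the gonality.
-/

set_option autoImplicit false
set_option linter.unusedSectionVars false

namespace CfsgLib.Lie.FeitHigman

open Polynomial Real

/-- An irrational root has a conjugate root with the same multiplicity. -/
theorem exists_conjugate {f : ℚ[X]} (hf0 : f ≠ 0) (hspl : (f.map (algebraMap ℚ ℝ)).Splits) {x : ℝ}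
    (hx : aeval x f = 0) (hirr : ¬∃ r : ℚ, x = r) :
    ∃ x' : ℝ, x' ≠ x ∧ minpoly ℚ x' = minpoly ℚ x ∧ aeval x' f = 0 ∧
      (f.map (algebraMap ℚ ℝ)).roots.count x' = (f.map (algebraMap ℚ ℝ)).roots.count x := by
  classical
  have hint : IsIntegral ℚ x := (IsAlgebraic.isIntegral ⟨f, hf0, hx⟩)
  set μ := minpoly ℚ x with hμ
  have hirred : Irreducible μ := minpoly.irreducible hint
  have hmon : μ.Monic := minpoly.monic hint
  have hdvd : μ ∣ f := minpoly.dvd ℚ x hx
  have hf0' : f.map (algebraMap ℚ ℝ) ≠ 0 := Polynomial.map_ne_zero hf0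
  have hμspl : (μ.map (algebraMap ℚ ℝ)).Splits := hspl.of_dvd hf0' (Polynomial.map_dvd _ hdvd)
  have hnd : (μ.map (algebraMap ℚ ℝ)).roots.Nodup := nodup_roots hirred.separable.map
  have hmem : ∀ z : ℝ, z ∈ (μ.map (algebraMap ℚ ℝ)).roots ↔ aeval z μ = 0 := fun z => by
    rw [mem_roots (Polynomial.map_ne_zero hmon.ne_zero), IsRoot.def, eval_map, aeval_def]
  have hdeg : 2 ≤ μ.natDegree := by
    have h1 : μ.natDegree ≠ 1 := fun h => by
      obtain ⟨r, hr⟩ := minpoly.natDegree_eq_one_iff.1 h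
      exact hirr ⟨r, by rw [← hr]; rfl⟩
    have h0 := minpoly.natDegree_pos hint
    rw [← hμ] at h0
    omega
  have hcard : 2 ≤ (μ.map (algebraMap ℚ ℝ)).roots.toFinset.card := by
    rw [Multiset.toFinset_card_of_nodup hnd, ← hμspl.natDegree_eq_card_roots, natDegree_map]
    exact hdeg
  obtain ⟨x', hx', hne⟩ := Finset.exists_mem_ne (s := (μ.map (algebraMap ℚ ℝ)).roots.toFinset) (by omega) x
  rw [Multiset.mem_toFinset, hmem] at hx'
  have hmin : minpoly ℚ x' = μ := (minpoly.eq_of_irreducible_of_monic hirred hx' hmon).symm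
  refine ⟨x', hne, hmin, aeval_eq_zero_of_dvd_aeval_eq_zero hdvd hx', ?_⟩
  obtain ⟨g, hg, hng⟩ := (finiteMultiplicity_of_degree_pos_of_monic
    (natDegree_pos_iff_degree_pos.1 (by omega)) hmon hf0).exists_eq_pow_mul_and_not_dvd
  have hcount : ∀ z : ℝ, aeval z μ = 0 → minpoly ℚ z = μ →
      (f.map (algebraMap ℚ ℝ)).roots.count z = multiplicity μ f := fun z hz hmz => by
    have hne : ((μ ^ multiplicity μ f * g).map (algebraMap ℚ ℝ)) ≠ 0 := by rw [← hg]; exact hf0'
    rw [Polynomial.map_mul, Polynomial.map_pow] at hne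
    rw [hg, Polynomial.map_mul, Polynomial.map_pow, roots_mul hne, roots_pow, Multiset.count_add,
      Multiset.count_nsmul, Multiset.count_eq_one_of_mem hnd ((hmem z).2 hz),
      Multiset.count_eq_zero_of_notMem, mul_one, add_zero, ← hg]
    intro h
    refine hng ?_
    rw [← hmz]
    exact minpoly.dvd ℚ z (by rw [aeval_def, ← eval_map]; exact (mem_roots'.1 h).2)
  rw [hcount x' hx' hmin, hcount x (minpoly.aeval ℚ x) rfl]

theorem sq_root_minpoly_eq {x x' : ℝ} {c : ℚ} (hx : x ^ 2 = c) (h : minpoly ℚ x' = minpoly ℚ x) :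
    x' ^ 2 = c := by
  have h1 : minpoly ℚ x ∣ X ^ 2 - C c := minpoly.dvd ℚ x (by simp [hx])
  have h2 : aeval x' (X ^ 2 - C c) = 0 := by
    refine aeval_eq_zero_of_dvd_aeval_eq_zero h1 ?_
    rw [← h]
    exact minpoly.aeval ℚ x'
  simpa [sub_eq_zero] using h2

theorem rat_of_minpoly_eq {x x' : ℝ} {r : ℚ} (hr : x' = r) (h : minpoly ℚ x' = minpoly ℚ x) : x = r := by
  subst hr
  have h0 : minpoly ℚ ((r : ℝ)) = X - C r := minpoly.eq_X_sub_C ℝ r
  have h1 := minpoly.aeval ℚ x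
  rw [← h, h0] at h1
  simpa [sub_eq_zero] using h1

/-- `2 cos` of a rational multiple of `π` that is rational and lies in `(0, 2)` equals `1`. -/
theorem cos_eq_half {θ : ℝ} (hθ : ∃ r : ℚ, θ = r * π) (hcos : ∃ q : ℚ, cos θ = q)
    (h0 : 0 < θ) (h1 : θ < π / 2) : θ = π / 3 := by
  have hπ := Real.pi_pos
  have := niven_angle_eq hθ hcos ⟨h0.le, by linarith⟩
  simp only [Set.mem_insert_iff, Set.mem_singleton_iff] at this
  rcases this with h | h | h | h | h
  · linarith
  · exact h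
  · linarith
  · rw [h] at h1; linarith
  · linarith

/-- The even case: a generalised `2h`-gon with `h ≥ 5` does not exist. -/
theorem no_even {h : ℕ} (hh : 5 ≤ h) {p q : ℚ} (hp : 2 ≤ p) (hq : 2 ≤ q) {f : ℚ[X]} (hf0 : f ≠ 0)
    (hspl : (f.map (algebraMap ℚ ℝ)).Splits) {y : ℕ → ℝ}
    (hy : ∀ k, y k = 2 * Real.sqrt (p * q) * cos (π * k / h))
    (hroots : ∀ x : ℝ, aeval x f = 0 → (x = p * q + 1 ∨ x = -(p + q)) ∨ ∃ k : ℕ, 1 ≤ k ∧ k < h ∧ x = y k)
    {N : ℝ} (hN : 0 < N)
    (hw : ∀ k, 1 ≤ k → k < h → ((f.map (algebraMap ℚ ℝ)).roots.count (y k) : ℝ) *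
      (2 * h * (((p * q + 1 : ℝ) - y k) * (y k + (p + q)))) = N * (4 * (p * q) - y k ^ 2)) : False := by
  have hP : (4 : ℝ) ≤ p * q := by exact_mod_cast (by nlinarith : (4 : ℚ) ≤ p * q)
  set r := Real.sqrt ((p : ℝ) * q) with hr
  have hr0 : 0 < r := Real.sqrt_pos.2 (by linarith)
  have hr2 : r ^ 2 = p * q := Real.sq_sqrt (by linarith)
  have hpR : (2 : ℝ) ≤ p := by exact_mod_cast hp
  have hqR : (2 : ℝ) ≤ q := by exact_mod_cast hq
  have hhR : (5 : ℝ) ≤ h := by exact_mod_cast hh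
  have hπ := Real.pi_pos
  have hang : ∀ k : ℕ, k < h → π * k / h ∈ Set.Icc 0 π := fun k hk => by
    refine ⟨by positivity, (div_le_iff₀ (by linarith)).2 ?_⟩
    exact mul_le_mul_of_nonneg_left (by exact_mod_cast hk.le) hπ.le
  have hbd : ∀ k : ℕ, 1 ≤ k → k < h → y k ^ 2 < 4 * (p * q) := fun k hk hk' => by
    rw [hy, mul_pow, mul_pow, hr2]
    have hs : 0 < sin (π * k / h) := by
      refine sin_pos_of_pos_of_lt_pi (by positivity) ((div_lt_iff₀ (by linarith)).2 ?_)
      exact mul_lt_mul_of_pos_left (by exact_mod_cast hk') hπ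
    have := sin_sq_add_cos_sq (π * k / h)
    have h1 : cos (π * k / h) ^ 2 < 1 := by nlinarith
    nlinarith
  have hroot : ∀ k, 1 ≤ k → k < h → aeval (y k) f = 0 := fun k hk hk' => by
    have h1 := hw k hk hk'
    have h2 := hbd k hk hk'
    by_contra hne
    rw [Multiset.count_eq_zero_of_notMem (fun hm => hne ?_), Nat.cast_zero, zero_mul] at h1
    · nlinarith
    · rw [aeval_def, ← eval_map]; exact (mem_roots'.1 hm).2
  -- conjugate roots of the middle range have negative sum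
  have key : ∀ k, 1 ≤ k → k < h → (¬∃ c : ℚ, y k = c) →
      ∃ j, 1 ≤ j ∧ j < h ∧ y j ≠ y k ∧ minpoly ℚ (y j) = minpoly ℚ (y k) ∧ y k + y j < 0 := by
    intro k hk hk' hirr
    obtain ⟨x', hne, hmin, hx', hcount⟩ := exists_conjugate hf0 hspl (hroot k hk hk') hirr
    rcases hroots x' hx' with (e | e) | ⟨j, hj, hj', rfl⟩
    · exact absurd ⟨_, rat_of_minpoly_eq (r := p * q + 1) (by rw [e]; push_cast; ring) hmin⟩ hirr
    · exact absurd ⟨_, rat_of_minpoly_eq (r := -(p + q)) (by rw [e]; push_cast; ring) hmin⟩ hirr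
    refine ⟨j, hj, hj', hne, hmin, ?_⟩
    have e1 := hw k hk hk'
    have e2 := hw j hj hj'
    rw [hcount] at e2
    have b1 := hbd k hk hk'
    have b2 := hbd j hj hj'
    set μ := ((f.map (algebraMap ℚ ℝ)).roots.count (y k) : ℝ)
    set a := y k
    set b := y j
    have hS : (0 : ℝ) < p * q + 1 - (p + q) := by nlinarith
    have hμ : 0 < μ := by
      have : 0 ≤ μ := Nat.cast_nonneg _
      rcases this.eq_or_lt with h | h
      · exfalso; rw [← h, zero_mul] at e1; nlinarith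
      · exact h
    have hlt : 4 * (p * q : ℝ) - a ^ 2 < (p * q + 1 - a) * (a + (p + q)) := by
      have ha1 : a < 2 * r := by nlinarith
      have ha2 : -(2 * r) < a := by nlinarith
      have h3 : 2 * r ≤ p * q + 1 := by nlinarith [sq_nonneg (r - 1)]
      have h4 : 2 * r ≤ p + q := by nlinarith [sq_nonneg ((p : ℝ) - q)]
      have h5 : 4 * (p * q : ℝ) - a ^ 2 = (2 * r - a) * (a + 2 * r) := by nlinarith
      have h7 : 2 * r < p * q + 1 := by nlinarith [sq_nonneg (r - 1)]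
      have h6 : (2 * r - a) * (a + 2 * r) < (p * q + 1 - a) * (a + 2 * r) := by
        apply mul_lt_mul_of_pos_right <;> linarith
      have h8 : (p * q + 1 - a) * (a + 2 * r) ≤ (p * q + 1 - a) * (a + (p + q)) := by
        apply mul_le_mul_of_nonneg_left <;> linarith
      linarith
    have hc : μ * (2 * h) < N := by
      have hpos : 0 < 4 * (p * q : ℝ) - a ^ 2 := by linarith
      nlinarith
    have hdiff : (a - b) * ((N - μ * (2 * h)) * (a + b) + μ * (2 * h) * (p * q + 1 - (p + q))) = 0 := by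
      linear_combination e1 - e2
    have hsum := (mul_eq_zero.1 hdiff).resolve_left (sub_ne_zero.2 hne.symm)
    by_contra hge
    push Not at hge
    have t1 : 0 ≤ (N - μ * (2 * h)) * (a + b) := mul_nonneg (by linarith) hge
    have t2 : 0 < μ * (2 * h) * (p * q + 1 - (p + q)) := by positivity
    linarith
  have hy1pos : 0 < cos (π * (1 : ℕ) / h) := by
    refine cos_pos_of_mem_Ioo ⟨?_, ?_⟩
    · have : (0 : ℝ) ≤ π * (1 : ℕ) / h := by positivity
      linarith
    · rw [Nat.cast_one, mul_one, div_lt_div_iff₀ (by linarith) two_pos]; nlinarith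
  -- the largest root is rational
  obtain ⟨c1, hc1⟩ : ∃ c : ℚ, y 1 = c := by
    by_contra hirr
    obtain ⟨j, hj, hj', -, -, hlt⟩ := key 1 le_rfl (by omega) hirr
    have hle : cos (π - π * (1 : ℕ) / h) ≤ cos (π * j / h) := by
      refine cos_le_cos_of_nonneg_of_le_pi (hang j hj').1 ?_ ?_
      · have := (hang 1 (by omega)).1; linarith
      · rw [Nat.cast_one, le_sub_iff_add_le, ← add_div, div_le_iff₀ (by linarith)]
        have : ((j : ℝ) + 1) ≤ h := by exact_mod_cast hj'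
        nlinarith
    rw [cos_pi_sub] at hle
    rw [hy, hy] at hlt
    nlinarith
  have hcos : ∃ c : ℚ, cos (2 * (π * (1 : ℕ) / h)) = c := by
    refine ⟨c1 ^ 2 / (2 * (p * q)) - 1, ?_⟩
    push_cast
    rw [cos_two_mul, ← hc1, hy, mul_pow, mul_pow, hr2]
    field_simp
    ring
  have h6 := cos_eq_half (θ := 2 * (π * (1 : ℕ) / h)) ⟨2 / h, by push_cast; ring⟩ hcos (by positivity)
    (by rw [Nat.cast_one, mul_one, ← mul_div_assoc, div_lt_div_iff₀ (by linarith) two_pos]; nlinarith)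
  have hh6 : h = 6 := by
    have h6' : (h : ℝ) = 6 := by
      rw [Nat.cast_one, mul_one] at h6
      field_simp at h6
      nlinarith
    exact_mod_cast h6'
  subst hh6
  have hy2 : y 2 = r := by
    rw [hy, show π * ((2 : ℕ) : ℝ) / ((6 : ℕ) : ℝ) = π / 3 by push_cast; ring, cos_pi_div_three]; ring
  have hy1 : y 1 = r * Real.sqrt 3 := by
    rw [hy, show π * ((1 : ℕ) : ℝ) / ((6 : ℕ) : ℝ) = π / 6 by push_cast; ring, cos_pi_div_six]; ring
  have hirr2 : ¬∃ c : ℚ, y 2 = c := by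
    rintro ⟨c, hc⟩
    rw [hy2] at hc
    rw [hy1, hc] at hc1
    refine Nat.prime_three.irrational_sqrt ⟨c1 / c, ?_⟩
    push_cast
    have : (c : ℝ) ≠ 0 := by linarith
    field_simp
    linarith
  obtain ⟨j, -, -, hne, hmin, hlt⟩ := key 2 (by omega) (by omega) hirr2
  have hsq := sq_root_minpoly_eq (c := p * q) (x := y 2) (by rw [hy2, hr2]; push_cast; ring) hmin
  rw [hy2] at hlt hne
  have : y j ^ 2 = r ^ 2 := by rw [hsq, hr2]; push_cast; ring
  rcases sq_eq_sq_iff_eq_or_eq_neg.1 this with e | e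
  · exact hne e
  · linarith

/-- The odd case: a generalised `(2h+1)`-gon with `h ≥ 2` does not exist. -/
theorem no_odd {h : ℕ} (hh : 2 ≤ h) {q : ℚ} (hq : 2 ≤ q) {f : ℚ[X]} (hf0 : f ≠ 0)
    (hspl : (f.map (algebraMap ℚ ℝ)).Splits) {y : ℕ → ℝ}
    (hy : ∀ k, y k = 2 * q * cos (2 * π * k / (2 * h + 1)))
    (hroots : ∀ x : ℝ, aeval x f = 0 → x = q * q + 1 ∨ ∃ k : ℕ, 1 ≤ k ∧ k ≤ h ∧ x = y k)
    {N : ℝ} (hN : 0 < N)
    (hw : ∀ k, 1 ≤ k → k ≤ h → ((f.map (algebraMap ℚ ℝ)).roots.count (y k) : ℝ) *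
      ((2 * h + 1) * ((q * q + 1 : ℝ) - y k)) = N * (2 * q - y k)) : False := by
  have hqR : (2 : ℝ) ≤ q := by exact_mod_cast hq
  have hhR : (2 : ℝ) ≤ h := by exact_mod_cast hh
  have hπ := Real.pi_pos
  have hm : (0 : ℝ) < 2 * h + 1 := by linarith
  have hlt : ∀ k : ℕ, 1 ≤ k → k ≤ h → y k < 2 * q := fun k hk hk' => by
    have hk1 : (k : ℝ) ≤ h := by exact_mod_cast hk'
    have hs : 0 < sin (2 * π * k / (2 * h + 1)) := by
      refine sin_pos_of_pos_of_lt_pi (by positivity) ((div_lt_iff₀ hm).2 ?_)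
      nlinarith
    have hc : cos (2 * π * k / (2 * h + 1)) < 1 := by
      have := sin_sq_add_cos_sq (2 * π * k / (2 * h + 1))
      nlinarith
    rw [hy]
    nlinarith
  have hroot : aeval (y 1) f = 0 := by
    have h1 := hw 1 le_rfl (by omega)
    by_contra hne
    rw [Multiset.count_eq_zero_of_notMem (fun hm => hne ?_), Nat.cast_zero, zero_mul] at h1
    · nlinarith [hlt 1 le_rfl (by omega)]
    · rw [aeval_def, ← eval_map]; exact (mem_roots'.1 hm).2
  obtain ⟨c, hc⟩ : ∃ c : ℚ, y 1 = c := by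
    by_contra hirr
    obtain ⟨x', hne, hmin, hx', hcount⟩ := exists_conjugate hf0 hspl hroot hirr
    rcases hroots x' hx' with e | ⟨j, hj, hj', rfl⟩
    · exact hirr ⟨_, rat_of_minpoly_eq (r := q * q + 1) (by rw [e]; push_cast; ring) hmin⟩
    have e1 := hw 1 le_rfl (by omega)
    have e2 := hw j hj hj'
    rw [hcount] at e2
    set μ := ((f.map (algebraMap ℚ ℝ)).roots.count (y 1) : ℝ)
    have hdiff : (y 1 - y j) * (N - μ * (2 * h + 1)) = 0 := by linear_combination e1 - e2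
    have hμ := (mul_eq_zero.1 hdiff).resolve_left (sub_ne_zero.2 hne.symm)
    have hμ' : μ * (2 * h + 1) = N := by linarith
    have h3 : N * ((q * q + 1 : ℝ) - 2 * q) = 0 := by rw [← mul_assoc, hμ'] at e1; linarith
    rcases mul_eq_zero.1 h3 with h | h <;> nlinarith
  have hcos : ∃ d : ℚ, cos (2 * π * (1 : ℕ) / (2 * h + 1)) = d := by
    refine ⟨c / (2 * q), ?_⟩
    push_cast
    rw [← hc, hy, Nat.cast_one]
    field_simp
  have h6 := cos_eq_half (θ := 2 * π * (1 : ℕ) / (2 * h + 1)) ⟨2 / (2 * h + 1), by push_cast; ring⟩ hcos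
    (by positivity) (by rw [Nat.cast_one, mul_one, div_lt_div_iff₀ hm two_pos]; nlinarith)
  rw [Nat.cast_one, mul_one] at h6
  field_simp at h6
  have h7 : 2 * h + 1 = 6 := by
    have h8 : ((2 * h + 1 : ℕ) : ℝ) = 6 := by push_cast; nlinarith
    exact_mod_cast h8
  omega

end CfsgLib.Lie.FeitHigman
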